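import Cfsg.Agent.Lib.PiHall23.Local

/-!
# The two cases with a centralized subgroup of prime index
-/

set_option autoImplicit false
set_option linter.unusedSectionVars false
set_option linter.style.haveILetI false

namespace Cfsg.Agent.PiHall23

open Subgroup Cfsg Cfsg.Agent.Classes23 FGS.ThreeSizes
open scoped Classical Pointwise

universe u

attribute [local instance] Classes23.finite_conjClasses

variable {G : Type u} [Group G] [Finite G] {p r : ℕ} {s : Finset ℕ} {B : Subgroup G}

/-- The inductive situation. -/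
structure Setup (p r : ℕ) (s : Finset ℕ) (B : Subgroup G) : Prop where
  hall : IsNilHall s B
  r_le : ∀ t ∈ s, r ≤ t
  p_lt : p < r
  many : p ^ (Nat.card G).factorization p * Mp s (Nat.card G) < p * kPi (insert p s) G
  good : ∀ x : G, (∃ k, orderOf x = p ^ k) →
    Mp s (Nat.card G) < r * kPi s ↥(centralizer ({x} : Set G)) →
      ∃ g : G, g * x * g⁻¹ ∈ centralizer (B : Set G)

theorem Setup.not_mem (S : Setup p r s B) : p ∉ s := fun h =>
  absurd (S.r_le p h) (Nat.not_le.mpr S.p_lt)

variable [hp : Fact p.Prime]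

/-- A class not meeting the Sylow subgroup of `C(B)` is bad. -/
theorem Setup.bad (S : Setup p r s B) {PB : Subgroup G}
    (hPB : Basics.IsSylowIn p (centralizer (B : Set G)) PB) {x : G}
    (hx : ∃ k, orderOf x = p ^ k) (h : ∀ x' ∈ PB, ¬ IsConj x x') :
    r * kPi s ↥(centralizer ({x} : Set G)) ≤ Mp s (Nat.card G) := by
  by_contra hlt
  obtain ⟨g, hg⟩ := S.good x hx (not_le.mp hlt)
  have hp' : PEl p (g * x * g⁻¹) := PEl.conj ⟨_, hx.choose_spec.dvd⟩ g
  obtain ⟨T, hT, hxT⟩ := exists_sylowIn_ge (isPGroup_zpowers hp') (zpowers_le.mpr hg)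
  obtain ⟨c, -, hcT⟩ := hT.exists_conj hPB
  refine h (c * (g * x * g⁻¹) * c⁻¹)
    (hcT ▸ Basics.conj_mem_conj_smul (hxT (mem_zpowers _))) (isConj_iff.mpr ⟨c * g, ?_⟩)
  group

/-- A full Sylow subgroup normalizing `B` is impossible. -/
theorem Setup.caseA (S : Setup p r s B) (P : Sylow p G)
    (hPn : (P : Subgroup G) ≤ normalizer (B : Set G)) {PB : Subgroup G}
    (hPB : Basics.IsSylowIn p (centralizer (B : Set G)) PB) (hle : PB ≤ (P : Subgroup G))
    (hc : Nat.card (P : Subgroup G) = p * Nat.card PB) : False := by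
  haveI := Fintype.ofFinite G
  set M := Mp s (Nat.card G) with hM
  have heq : (P : Subgroup G) ⊓ centralizer (B : Set G) = PB := by
    refine (eq_of_le_of_card_ge (le_inf hle hPB.1) ?_).symm
    rw [hPB.2]
    exact card_pGroup_le (P.2.to_le inf_le_left) inf_le_right
  have hnorm : ∀ g ∈ (P : Subgroup G), ∀ x ∈ PB, g * x * g⁻¹ ∈ PB := by
    intro g hg x hx
    rw [← heq]
    refine mem_inf.mpr ⟨mul_mem (mul_mem hg (hle hx)) (inv_mem hg), mem_centralizer_iff.mpr fun b hb => ?_⟩
    have hb' : g⁻¹ * b * g ∈ B := (mem_normalizer_iff''.mp (hPn hg) b).mp hb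
    have h1 := mem_centralizer_iff.mp (hPB.1 hx) _ hb'
    calc b * (g * x * g⁻¹) = g * (g⁻¹ * b * g * x) * g⁻¹ := by group
      _ = _ := by rw [h1]; group
  obtain ⟨y, hyP, hy⟩ : ∃ y ∈ (P : Subgroup G), y ∉ PB := by
    by_contra! h
    have h1 := card_le_of_le (show (P : Subgroup G) ≤ PB from h)
    have := hp.out.one_lt
    have := Nat.card_pos (α := PB)
    nlinarith
  set F := B ⊓ centralizer ({y} : Set G) with hF
  have hFM : r * Nat.card F ≤ M := by
    refine mul_le_of_dvd_ne S.hall.prime S.r_le (S.hall.card_eq ▸ card_dvd_of_le inf_le_left) ?_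
    intro e
    have e' := eq_of_le_of_card_ge (inf_le_left : F ≤ B) (le_of_eq (S.hall.card_eq.trans e.symm))
    refine hy (heq ▸ ⟨hyP, mem_centralizer_iff.mpr fun b hb => ?_⟩)
    exact mem_centralizer_singleton_iff.mp (e'.ge hb).2
  have hpy : ∃ k, orderOf y = p ^ k := by
    obtain ⟨k, hk⟩ := IsPGroup.iff_orderOf.mp P.2 ⟨y, hyP⟩
    exact ⟨k, by rw [← hk, orderOf_mk]⟩
  have hmain := kPi_insert_mul_le (σ := s) P (p * r)
    (fun z => if z ∈ PB then M * (p + r - 1) else M * p) ?_
  · have hsum := sum_ite_two (P : Subgroup G) PB hle (M * (p + r - 1)) (M * p)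
    have hmany := S.many
    rw [← P.card_eq_multiplicity, hc, mul_assoc, ← hM] at hmany
    have hk : Nat.card PB * M < kPi (insert p s) G := Nat.lt_of_mul_lt_mul_left hmany
    rw [hc] at hsum
    obtain ⟨d, hd⟩ : ∃ d, r = p + 1 + d := ⟨r - (p + 1), by have := S.p_lt; omega⟩
    obtain ⟨e, he⟩ : ∃ e, p = 2 + e := ⟨p - 2, by have := hp.out.two_le; omega⟩
    have h1 : (Nat.card PB * M + 1) * (p * r) ≤ kPi (insert p s) G * (p * r) :=
      Nat.mul_le_mul_right _ hk
    have h2 : p + r - 1 = p + (p + d) := by omega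
    rw [h2] at hsum hmain
    subst hd he
    have h5 : 0 ≤ e * (d * (Nat.card PB * M)) := Nat.zero_le _
    have h6 : 0 ≤ d * (Nat.card PB * M) := Nat.zero_le _
    nlinarith
  · intro x hx
    have hxp : ∃ k, orderOf x = p ^ k := by
      obtain ⟨k, hk⟩ := IsPGroup.iff_orderOf.mp P.2 ⟨x, hx⟩
      exact ⟨k, by rw [← hk, orderOf_mk]⟩
    by_cases hmeet : ∃ x' ∈ PB, IsConj x x'
    · obtain ⟨x', hx', hxx'⟩ := hmeet
      have hk' := kPi_centralizer_congr (σ := s) hxx'
      by_cases hcen : ∀ g ∈ (P : Subgroup G), Commute g x'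
      · refine ⟨{x'}, fun z hz => by rw [Finset.mem_singleton] at hz; subst hz; exact ⟨hle hx', hxx'⟩, ?_⟩
        rw [Finset.sum_singleton, if_pos hx']
        refine (Nat.mul_le_mul_right _ hk').trans ?_
        have hBD : B ≤ centralizer ({x'} : Set G) := fun b hb => mem_centralizer_singleton_iff.mpr
          (mem_centralizer_iff.mp (hPB.1 hx') b hb)
        have hyD : y ∈ centralizer ({x'} : Set G) :=
          mem_centralizer_singleton_iff.mpr (hcen y hyP).eq
        set D := centralizer ({x'} : Set G) with hD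
        haveI := Fintype.ofFinite D
        have hcount := kPi_mul_le (G := D) s (Finset.univ.filter (fun z => z ∈ B.subgroupOf D)) p
          (fun z => if z ∈ F.subgroupOf D then p else 1) ?_ ?_
        · have hs := sum_ite_two (B.subgroupOf D) (F.subgroupOf D)
            (fun z hz => (mem_inf.mp (show (z : G) ∈ F from hz)).1) p 1
          rw [Nat.card_congr (subgroupOfEquivOfLe hBD).toEquiv,
            Nat.card_congr (subgroupOfEquivOfLe ((inf_le_left : F ≤ B).trans hBD)).toEquiv,
            S.hall.card_eq, ← hM, ← hF] at hs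
          obtain ⟨e, rfl⟩ : ∃ e, p = e + 1 := ⟨p - 1, by have := hp.out.two_le; omega⟩
          have h2 : e + 1 + r - 1 = e + r := by omega
          rw [h2]
          have h3 : kPi s D * (e + 1) + Nat.card F ≤ (e + 1) * Nat.card F + M := by omega
          have h4 : e * (r * Nat.card F) ≤ e * M := Nat.mul_le_mul_left e hFM
          nlinarith
        · intro g hg
          obtain ⟨t, htB, hgt⟩ := S.hall.exists_isConj hBD g hg
          exact ⟨t, by simpa [mem_subgroupOf] using htB, hgt⟩
        · intro t ht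
          simp only [Finset.mem_filter, Finset.mem_univ, true_and, mem_subgroupOf] at ht
          by_cases htF : t ∈ F.subgroupOf D
          · exact ⟨{t}, fun z hz => by
              rw [Finset.mem_singleton] at hz; subst hz
              exact ⟨by simpa [mem_subgroupOf] using ht, IsConj.refl _⟩, by simp [htF]⟩
          · have hne : ¬ Commute (⟨y, hyD⟩ : D) t := fun h => htF
              ⟨ht, mem_centralizer_singleton_iff.mpr (congrArg Subtype.val h.eq).symm⟩
            refine ⟨(Finset.range p).image (fun i => (⟨y, hyD⟩ : D) ^ i * t * ((⟨y, hyD⟩ : D) ^ i)⁻¹), ?_, ?_⟩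
            · intro z hz
              obtain ⟨i, -, rfl⟩ := Finset.mem_image.mp hz
              refine ⟨?_, isConj_iff.mpr ⟨_, rfl⟩⟩
              simp only [Finset.mem_filter, Finset.mem_univ, true_and, mem_subgroupOf]
              exact conj_mem_of_mem_normalizer (pow_mem (hPn hyP) i) ht
            · calc p = ((Finset.range p).image (fun i =>
                    (⟨y, hyD⟩ : D) ^ i * t * ((⟨y, hyD⟩ : D) ^ i)⁻¹)).card • 1 := by
                    rw [smul_eq_mul, mul_one]
                    convert (card_pow_conj (p := p)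
                      (by obtain ⟨k, hk⟩ := hpy; exact ⟨k, by rw [orderOf_mk, hk]⟩) hne).symm
                _ ≤ _ := Finset.card_nsmul_le_sum _ _ _ fun z _ => by
                    have := hp.out.one_le
                    split <;> omega
      · push Not at hcen
        obtain ⟨g, hg, hgx⟩ := hcen
        have hgp : ∃ k, orderOf g = p ^ k := by
          obtain ⟨k, hk⟩ := IsPGroup.iff_orderOf.mp P.2 ⟨g, hg⟩
          exact ⟨k, by rw [← hk, orderOf_mk]⟩
        refine ⟨(Finset.range p).image (fun i => g ^ i * x' * (g ^ i)⁻¹), ?_, ?_⟩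
        · intro z hz
          obtain ⟨i, -, rfl⟩ := Finset.mem_image.mp hz
          exact ⟨hle (hnorm _ (pow_mem hg i) x' hx'), hxx'.trans (isConj_iff.mpr ⟨_, rfl⟩)⟩
        · calc kPi s ↥(centralizer ({x} : Set G)) * (p * r)
              ≤ p * (M * (p + r - 1)) := by
                have h1 := kPi_le_Mp S.hall.prime (centralizer ({x} : Set G))
                have h2 : r ≤ p + r - 1 := by have := hp.out.two_le; omega
                calc _ ≤ M * (p * r) := Nat.mul_le_mul_right _ h1
                  _ = p * (M * r) := by ring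
                  _ ≤ _ := Nat.mul_le_mul_left _ (Nat.mul_le_mul_left _ h2)
            _ = ((Finset.range p).image (fun i => g ^ i * x' * (g ^ i)⁻¹)).card •
                (M * (p + r - 1)) := by rw [card_pow_conj hgp hgx, smul_eq_mul]
            _ ≤ _ := Finset.card_nsmul_le_sum _ _ _ fun z hz => by
                obtain ⟨i, -, rfl⟩ := Finset.mem_image.mp hz
                rw [if_pos (hnorm _ (pow_mem hg i) x' hx')]
    · push Not at hmeet
      refine ⟨{x}, fun z hz => by rw [Finset.mem_singleton] at hz; subst hz; exact ⟨hx, IsConj.refl _⟩, ?_⟩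
      rw [Finset.sum_singleton, if_neg fun h => hmeet x h (IsConj.refl x)]
      have h1 := Nat.mul_le_mul_left p (S.bad hPB hxp hmeet)
      rw [← hM] at h1
      nlinarith

end Cfsg.Agent.PiHall23
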