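import Cfsg.Agent.Lib.Classes23.PiClasses

/-!
# Weighted counts of classes of π-elements
-/

set_option autoImplicit false
set_option linter.unusedSectionVars false

namespace Cfsg.Agent.PiHall23

open Subgroup Cfsg Cfsg.Agent.Classes23
open scoped Classical

universe u

attribute [local instance] Classes23.finite_conjClasses

variable {G : Type u} [Group G] [Finite G]

/-- All prime divisors of the order of `g` lie in `σ`. -/
def IsPiEl (σ : Finset ℕ) (g : G) : Prop := ∀ r : ℕ, r.Prime → r ∣ orderOf g → r ∈ σ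

/-- The `σ`-part of `n`. -/
noncomputable def Mp (σ : Finset ℕ) (n : ℕ) : ℕ := σ.prod (fun r => r ^ n.factorization r)

theorem Mp_pos {σ : Finset ℕ} (hσ : ∀ r ∈ σ, r.Prime) (n : ℕ) : 0 < Mp σ n :=
  Finset.prod_pos fun r hr => pow_pos (hσ r hr).pos _

theorem Mp_dvd {σ : Finset ℕ} {a b : ℕ} (hb : b ≠ 0) (h : a ∣ b) : Mp σ a ∣ Mp σ b := by
  have ha : a ≠ 0 := fun e => hb (Nat.eq_zero_of_zero_dvd (e ▸ h))
  exact Finset.prod_dvd_prod_of_dvd _ _ fun r _ =>
    pow_dvd_pow r ((Nat.factorization_le_iff_dvd ha hb).mpr h r)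

theorem Mp_factorization {σ : Finset ℕ} (hσ : ∀ r ∈ σ, r.Prime) (n t : ℕ) :
    (Mp σ n).factorization t = if t ∈ σ then n.factorization t else 0 := by
  rw [Mp, Nat.factorization_prod fun r hr => pow_ne_zero _ (hσ r hr).ne_zero, Finset.sum_congr rfl
    (fun r hr => (hσ r hr).factorization_pow), Finsupp.finsetSum_apply]
  simp only [Finsupp.single_apply, Finset.sum_ite_eq']

theorem mem_of_dvd_Mp {σ : Finset ℕ} (hσ : ∀ r ∈ σ, r.Prime) {n t : ℕ} (ht : t.Prime)
    (hd : t ∣ Mp σ n) : t ∈ σ := by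
  by_contra h
  have h1 := Mp_factorization hσ n t
  rw [if_neg h] at h1
  exact (ht.factorization_pos_of_dvd (Mp_pos hσ n).ne' hd).ne' h1

theorem Mp_insert {σ : Finset ℕ} {p : ℕ} (hp : p ∉ σ) (n : ℕ) :
    Mp (insert p σ) n = p ^ n.factorization p * Mp σ n := Finset.prod_insert hp

/-- A proper divisor is smaller by at least the least prime. -/
theorem mul_le_of_dvd_ne {σ : Finset ℕ} (hσ : ∀ t ∈ σ, t.Prime) {r n d : ℕ}
    (hr : ∀ t ∈ σ, r ≤ t) (hd : d ∣ Mp σ n) (hne : d ≠ Mp σ n) : r * d ≤ Mp σ n := by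
  obtain ⟨c, hc⟩ := hd
  have hc1 : c ≠ 1 := fun e => hne (by rw [hc, e, mul_one])
  obtain ⟨t, ht, htc⟩ := Nat.exists_prime_and_dvd hc1
  have hts := mem_of_dvd_Mp hσ ht (hc ▸ dvd_mul_of_dvd_right htc d)
  have h0 : 0 < c := Nat.pos_of_ne_zero fun e => (Mp_pos hσ n).ne' (by rw [hc, e, mul_zero])
  rw [hc, mul_comm r]
  exact Nat.mul_le_mul_left _ ((hr t hts).trans (Nat.le_of_dvd h0 htc))

theorem kPi_le_Mp {σ : Finset ℕ} (hσ : ∀ r ∈ σ, r.Prime) (H : Subgroup G) :
    kPi σ H ≤ Mp σ (Nat.card G) :=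
  (kPi_le σ hσ H).trans (Nat.le_of_dvd (Mp_pos hσ _)
    (Mp_dvd Nat.card_pos.ne' (card_subgroup_dvd_card H)))

/-- Weighted count of classes of `σ`-elements on a covering set. -/
theorem kPi_mul_le [Fintype G] (σ : Finset ℕ) (T : Finset G) (m : ℕ) (f : G → ℕ)
    (hc : ∀ g : G, IsPiEl σ g → ∃ t ∈ T, IsConj g t)
    (h : ∀ t ∈ T, ∃ S : Finset G, (∀ y ∈ S, y ∈ T ∧ IsConj t y) ∧ m ≤ S.sum f) :
    kPi σ G * m ≤ T.sum f := by
  haveI := Fintype.ofFinite {c : ConjClasses G // ∀ x ∈ c.carrier, IsPiEl σ x}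
  have hrep : ∀ c : {c : ConjClasses G // ∀ x ∈ c.carrier, IsPiEl σ x},
      ∃ t ∈ T, ConjClasses.mk t = c.1 := by
    intro c
    obtain ⟨y, hy⟩ := ConjClasses.mk_surjective c.1
    obtain ⟨t, ht, hyt⟩ := hc y (c.2 y (ConjClasses.mem_carrier_iff_mk_eq.mpr hy))
    exact ⟨t, ht, by rw [← hy]; exact (ConjClasses.mk_eq_mk_iff_isConj.mpr hyt).symm⟩
  choose x hxT hxc using hrep
  choose S hS hm using fun c => h (x c) (hxT c)
  have hd : Set.PairwiseDisjoint
      (↑(Finset.univ : Finset {c : ConjClasses G // ∀ x ∈ c.carrier, IsPiEl σ x}) : Set _) S := by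
    intro c _ d _ hcd
    refine Finset.disjoint_left.mpr fun y hy1 hy2 => hcd (Subtype.ext ?_)
    rw [← hxc c, ← hxc d, ConjClasses.mk_eq_mk_iff_isConj]
    exact (hS c y hy1).2.trans (hS d y hy2).2.symm
  calc kPi σ G * m = ∑ _c : {c : ConjClasses G // ∀ x ∈ c.carrier, IsPiEl σ x}, m := by
        rw [Finset.sum_const, Finset.card_univ, smul_eq_mul, ← Nat.card_eq_fintype_card]
        rfl
    _ ≤ ∑ c, (S c).sum f := Finset.sum_le_sum fun c _ => hm c
    _ = (Finset.univ.biUnion S).sum f := (Finset.sum_biUnion hd).symm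
    _ ≤ T.sum f := by
        refine Finset.sum_le_sum_of_subset fun y hy => ?_
        obtain ⟨c, -, hc⟩ := Finset.mem_biUnion.mp hy
        exact (hS c y hc).1

/-- Number of classes of `σ`-elements is invariant under isomorphisms. -/
theorem kPi_le_of_equiv {σ : Finset ℕ} {A B : Type u} [Group A] [Group B] [Finite A] [Finite B]
    (e : A ≃* B) : kPi σ A ≤ kPi σ B := by
  refine Nat.card_le_card_of_injective (fun c => ⟨ConjClasses.map e.toMonoidHom c.1, ?_⟩) ?_
  · intro y hy r hr hry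
    obtain ⟨a, ha⟩ := ConjClasses.mk_surjective c.1
    rw [← ha] at hy
    have h1 : IsConj (e a) y :=
      (ConjClasses.mk_eq_mk_iff_isConj.mp (ConjClasses.mem_carrier_iff_mk_eq.mp hy)).symm
    obtain ⟨t, rfl⟩ := isConj_iff.mp h1
    rw [← MulAut.conj_apply, MulEquiv.orderOf_eq, MulEquiv.orderOf_eq] at hry
    exact c.2 a (ConjClasses.mem_carrier_iff_mk_eq.mpr ha) r hr hry
  · rintro ⟨c, hc⟩ ⟨d, hd⟩ h
    refine Subtype.ext ?_
    obtain ⟨a, rfl⟩ := ConjClasses.mk_surjective c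
    obtain ⟨b, rfl⟩ := ConjClasses.mk_surjective d
    have h1 : IsConj (e a) (e b) := ConjClasses.mk_eq_mk_iff_isConj.mp (congrArg Subtype.val h)
    refine ConjClasses.mk_eq_mk_iff_isConj.mpr ?_
    simpa using (MonoidHom.map_isConj e.symm.toMonoidHom h1)

theorem kPi_centralizer_congr {σ : Finset ℕ} {x y : G} (h : IsConj x y) :
    kPi σ ↥(centralizer ({x} : Set G)) ≤ kPi σ ↥(centralizer ({y} : Set G)) := by
  obtain ⟨g, rfl⟩ := isConj_iff.mp h
  have he : (centralizer ({x} : Set G)).map (MulAut.conj g).toMonoidHom =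
      centralizer ({g * x * g⁻¹} : Set G) := by
    ext z
    simp only [mem_map, mem_centralizer_singleton_iff]
    constructor
    · rintro ⟨w, hw, rfl⟩
      show g * w * g⁻¹ * (g * x * g⁻¹) = g * x * g⁻¹ * (g * w * g⁻¹)
      calc g * w * g⁻¹ * (g * x * g⁻¹) = g * (w * x) * g⁻¹ := by group
        _ = _ := by rw [hw]; group
    · intro hz
      refine ⟨g⁻¹ * z * g, ?_, by simp [mul_assoc]⟩
      calc g⁻¹ * z * g * x = g⁻¹ * (z * (g * x * g⁻¹)) * g := by group
        _ = _ := by rw [hz]; group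
  exact kPi_le_of_equiv (((centralizer ({x} : Set G)).equivMapOfInjective _
    (MulAut.conj g).injective).trans (MulEquiv.subgroupCongr he))

/-- Weighted splitting at a prime. -/
theorem kPi_insert_mul_le [Fintype G] {p : ℕ} [hp : Fact p.Prime] {σ : Finset ℕ} (P : Sylow p G)
    (m : ℕ) (f : G → ℕ)
    (h : ∀ x ∈ (P : Subgroup G), ∃ S : Finset G,
      (∀ y ∈ S, y ∈ (P : Subgroup G) ∧ IsConj x y) ∧
        kPi σ ↥(centralizer ({x} : Set G)) * m ≤ S.sum f) :
    kPi (insert p σ) G * m ≤ (Finset.univ.filter (fun y => y ∈ (P : Subgroup G))).sum f := by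
  let A := {c : ConjClasses G // ∀ x ∈ c.carrier, ∃ k : ℕ, orderOf x = p ^ k}
  haveI := Fintype.ofFinite A
  choose rep hrepP hrep using exists_rep_mem_sylow P
  choose S hS hm using fun c => h (rep c) (hrepP c)
  have hd : Set.PairwiseDisjoint (↑(Finset.univ : Finset A) : Set _) S := by
    intro c _ d _ hcd
    refine Finset.disjoint_left.mpr fun y hy1 hy2 => hcd (Subtype.ext ?_)
    rw [← hrep c, ← hrep d, ConjClasses.mk_eq_mk_iff_isConj]
    exact (hS c y hy1).2.trans (hS d y hy2).2.symm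
  let Bc : A → Type u := fun c =>
    {d : ConjClasses ↥(centralizer ({rep c} : Set G)) //
      ∀ x ∈ d.carrier, ∀ r : ℕ, r.Prime → r ∣ orderOf x → r ∈ σ}
  haveI : ∀ c, Finite (Bc c) := fun c => Subtype.finite
  have hex : ∀ z : {c : ConjClasses G // ∀ x ∈ c.carrier, ∀ r : ℕ, r.Prime → r ∣ orderOf x →
      r ∈ insert p σ}, ∃ cd : (c : A) × Bc c,
        ConjClasses.mk (rep cd.1 * (Quotient.out cd.2.1 : ↥(centralizer ({rep cd.1} : Set G)))) =
          z.1 := by
    intro z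
    obtain ⟨x, hx⟩ := ConjClasses.mk_surjective z.1
    have hxπ := z.2 x (ConjClasses.mem_carrier_iff_mk_eq.mpr hx)
    obtain ⟨u, v, huv, hcomm, ⟨k, hk⟩, hvd, hvp, -, -⟩ :=
      exists_pPart_split (p := p) (orderOf_pos x).ne'
    let c : A := ⟨ConjClasses.mk u, fun y hy => by
      obtain ⟨t, rfl⟩ := isConj_iff.mp
        (ConjClasses.mk_eq_mk_iff_isConj.mp (ConjClasses.mem_carrier_iff_mk_eq.mp hy).symm)
      exact ⟨k, by rw [← MulAut.conj_apply, MulEquiv.orderOf_eq, hk]⟩⟩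
    obtain ⟨t, ht⟩ := isConj_iff.mp (ConjClasses.mk_eq_mk_iff_isConj.mp (hrep c)).symm
    have hv' : t * v * t⁻¹ ∈ centralizer ({rep c} : Set G) := by
      rw [mem_centralizer_singleton_iff, ← ht]
      simpa [mul_assoc] using congrArg (fun w => t * w * t⁻¹) hcomm.eq.symm
    let d : Bc c := ⟨ConjClasses.mk ⟨t * v * t⁻¹, hv'⟩, fun y hy r hr hry => by
      obtain ⟨s, rfl⟩ := isConj_iff.mp
        (ConjClasses.mk_eq_mk_iff_isConj.mp (ConjClasses.mem_carrier_iff_mk_eq.mp hy).symm)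
      rw [← MulAut.conj_apply, MulEquiv.orderOf_eq, ← orderOf_coe] at hry
      change r ∣ orderOf (t * v * t⁻¹) at hry
      rw [← MulAut.conj_apply, MulEquiv.orderOf_eq] at hry
      rcases Finset.mem_insert.mp (hxπ r hr (hry.trans hvd)) with rfl | h
      · exact absurd hry hvp
      · exact h⟩
    refine ⟨⟨c, d⟩, ?_⟩
    rw [← hx, ConjClasses.mk_eq_mk_iff_isConj, isConj_comm]
    obtain ⟨w, hw⟩ := isConj_iff.mp
      (ConjClasses.mk_eq_mk_iff_isConj.mp (Quotient.out_eq d.1).symm)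
    refine isConj_iff.mpr ⟨(w : G) * t, ?_⟩
    have hw' : (w : G) * (t * v * t⁻¹) * (w : G)⁻¹ =
        ((Quotient.out d.1 : ↥(centralizer ({rep c} : Set G))) : G) := congrArg Subtype.val hw
    have hwc : (w : G) * rep c * (w : G)⁻¹ = rep c :=
      mul_inv_eq_iff_eq_mul.mpr (mem_centralizer_singleton_iff.mp w.2)
    show (w : G) * t * x * ((w : G) * t)⁻¹ =
      rep c * ((Quotient.out d.1 : ↥(centralizer ({rep c} : Set G))) : G)
    have ht' : t * u * t⁻¹ = rep c := ht
    calc (w : G) * t * x * ((w : G) * t)⁻¹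
        = ((w : G) * (t * u * t⁻¹) * (w : G)⁻¹) * ((w : G) * (t * v * t⁻¹) * (w : G)⁻¹) := by
          rw [← huv]; simp [mul_assoc]
      _ = _ := by rw [ht', hwc, hw']
  choose φ hφ using hex
  have hinj : Function.Injective φ := fun a b e => Subtype.ext (by rw [← hφ a, ← hφ b, e])
  have hle : kPi (insert p σ) G ≤ ∑ c : A, kPi σ ↥(centralizer ({rep c} : Set G)) :=
    (Nat.card_le_card_of_injective φ hinj).trans_eq Nat.card_sigma
  calc kPi (insert p σ) G * m ≤ (∑ c : A, kPi σ ↥(centralizer ({rep c} : Set G))) * m :=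
        Nat.mul_le_mul_right m hle
    _ = ∑ c : A, kPi σ ↥(centralizer ({rep c} : Set G)) * m := Finset.sum_mul _ _ _
    _ ≤ ∑ c, (S c).sum f := Finset.sum_le_sum fun c _ => hm c
    _ = (Finset.univ.biUnion S).sum f := (Finset.sum_biUnion hd).symm
    _ ≤ _ := by
        refine Finset.sum_le_sum_of_subset fun y hy => ?_
        obtain ⟨c, -, hc⟩ := Finset.mem_biUnion.mp hy
        simp [(hS c y hc).1]

theorem sum_ite_two [Fintype G] (P Q : Subgroup G) (hQP : Q ≤ P) (a b : ℕ) :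
    (Finset.univ.filter (fun y => y ∈ P)).sum (fun y => if y ∈ Q then a else b) +
      b * Nat.card Q = a * Nat.card Q + b * Nat.card P := by
  rw [← card_filter_mem P, ← card_filter_mem Q]
  have e : (Finset.univ.filter (fun y => y ∈ Q)) =
      (Finset.univ.filter (fun y => y ∈ P)).filter (fun y => y ∈ Q) := by
    ext y; simpa using fun h : y ∈ Q => hQP h
  rw [e, Finset.card_eq_sum_ones, Finset.card_eq_sum_ones, Finset.mul_sum, Finset.mul_sum,
    Finset.mul_sum, Finset.sum_filter (p := fun y => y ∈ Q),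
    Finset.sum_filter (p := fun y => y ∈ Q), ← Finset.sum_add_distrib, ← Finset.sum_add_distrib]
  refine Finset.sum_congr rfl fun y _ => ?_
  by_cases h : y ∈ Q <;> simp [h]

/-- Conjugates by the powers of a `p`-element not commuting with `x`. -/
theorem card_pow_conj {p : ℕ} [hp : Fact p.Prime] {g x : G} (hg : ∃ k, orderOf g = p ^ k)
    (hne : ¬ Commute g x) :
    ((Finset.range p).image (fun i => g ^ i * x * (g ^ i)⁻¹)).card = p := by
  obtain ⟨k, hk⟩ := hg
  rw [Finset.card_image_of_injOn, Finset.card_range]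
  intro i hi j hj he
  by_contra hij
  wlog hlt : i < j generalizing i j
  · exact this hj hi he.symm (Ne.symm hij) (by omega)
  simp only [Finset.coe_range, Set.mem_Iio] at hi hj
  have h1 : g ^ (j - i) * x * (g ^ (j - i))⁻¹ = x := by
    have h2 := congrArg (fun z => (g ^ i)⁻¹ * z * g ^ i) he
    simp only at h2
    have e1 : (g ^ i)⁻¹ * (g ^ i * x * (g ^ i)⁻¹) * g ^ i = x := by group
    have e2 : g ^ (j - i) = (g ^ i)⁻¹ * g ^ j := by
      rw [eq_inv_mul_iff_mul_eq, ← pow_add, Nat.add_sub_cancel' hlt.le]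
    rw [e1] at h2
    conv_rhs => rw [h2]
    rw [e2]; group
  have h3 : Commute (g ^ (j - i)) x := mul_inv_eq_iff_eq_mul.mp h1
  have hcop : (j - i).Coprime (orderOf g) := by
    rw [hk]
    exact (((Nat.Prime.coprime_iff_not_dvd hp.out).mpr
      (Nat.not_dvd_of_pos_of_lt (by omega) (by omega))).symm).pow_right k
  obtain ⟨l, hl⟩ := exists_pow_eq_self_of_coprime hcop
  exact hne (hl ▸ h3.pow_left l)

end Cfsg.Agent.PiHall23
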