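import Cfsg.Agent.Lib.PiHall23.Main

/-!
# The statements for sets of primes
-/

set_option autoImplicit false
set_option linter.unusedSectionVars false
set_option linter.style.haveILetI false

namespace Cfsg.Agent.PiHall23

open Subgroup Cfsg Cfsg.Agent.Classes23
open scoped Classical

universe u

attribute [local instance] Classes23.finite_conjClasses

variable {G : Type u} [Group G] [Finite G]

/-- Many classes give a nilpotent Hall subgroup with a small derived subgroup. -/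
theorem exists_hall (π : Set ℕ) (p : ℕ) (hmin : ∀ q ∈ π, p ≤ q)
    (m : ℕ) (hm : m ∣ Nat.card G) (hmπ : ∀ q : ℕ, q.Prime → q ∣ m → q ∈ π)
    (hm' : ∀ q ∈ π, ¬ q ∣ Nat.card G / m) (k : ℕ)
    (hk : k = Nat.card {C : ConjClasses G // ∀ q : ℕ, q.Prime → (∃ g : G, ConjClasses.mk g = C ∧ q ∣ orderOf g) → q ∈ π})
    (hmany : m < p * k) :
    ∃ H : Subgroup G, Nat.card H = m ∧ Group.IsNilpotent H ∧
      k * (Nat.card (commutator H) * p ^ 2) + m ≤ m * Nat.card (commutator H) + p ^ 2 * m ∧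
      ∀ t : ℕ, t.Prime → t ∣ Nat.card H → p ≤ t := by
  set S := (Nat.card G).primeFactors.filter (fun q => q ∈ π) with hS
  have hSp : ∀ r ∈ S, r.Prime := fun r hr => Nat.prime_of_mem_primeFactors (Finset.mem_filter.mp hr).1
  have hm0 : m ≠ 0 := fun h0 => Nat.card_pos.ne' (Nat.eq_zero_of_zero_dvd (h0 ▸ hm))
  have hmS : Mp S (Nat.card G) = m := by
    refine Nat.eq_of_factorization_eq (Mp_pos hSp _).ne' hm0 fun t => ?_
    rw [Mp_factorization hSp]
    by_cases ht : t.Prime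
    · by_cases htπ : t ∈ π
      · have h1 : (Nat.card G).factorization t = m.factorization t := by
          have hd : m * (Nat.card G / m) = Nat.card G := Nat.mul_div_cancel' hm
          have h0 : Nat.card G / m ≠ 0 := fun h0 => Nat.card_pos.ne' (by rw [← hd, h0, mul_zero])
          rw [← hd, Nat.factorization_mul hm0 h0, Finsupp.add_apply,
            Nat.factorization_eq_zero_of_not_dvd (hm' t htπ), add_zero]
        split_ifs with h
        · exact h1
        · rw [← h1, Nat.factorization_eq_zero_of_not_dvd fun hd =>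
            h (Finset.mem_filter.mpr ⟨Nat.mem_primeFactors.mpr ⟨ht, hd, Nat.card_pos.ne'⟩, htπ⟩)]
      · rw [if_neg fun h => htπ (Finset.mem_filter.mp h).2,
          Nat.factorization_eq_zero_of_not_dvd fun hd => htπ (hmπ t ht hd)]
    · rw [if_neg fun h => ht (hSp t h), Nat.factorization_eq_zero_of_not_prime _ ht]
  have hkS : k ≤ kPi S G := by
    rw [hk]
    refine Nat.card_le_card_of_injective (fun C => ⟨C.1, fun x hx r hr hrx => ?_⟩)
      (fun a b h => Subtype.ext (congrArg (fun c => c.1) h))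
    exact Finset.mem_filter.mpr ⟨Nat.mem_primeFactors.mpr
      ⟨hr, hrx.trans (_root_.orderOf_dvd_natCard x), Nat.card_pos.ne'⟩,
      C.2 r hr ⟨x, ConjClasses.mem_carrier_iff_mk_eq.mp hx, hrx⟩⟩
  obtain ⟨H, hH⟩ := exists_nilHall S hSp p (fun t ht => hmin t (Finset.mem_filter.mp ht).2) G
    (by rw [hmS]; exact hmany.trans_le (Nat.mul_le_mul_left p hkS))
  have hHm : Nat.card H = m := hH.card_eq.trans hmS
  have hq : ∀ t : ℕ, t.Prime → t ∣ Nat.card H → p ≤ t := fun t ht hd =>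
    hmin t (hmπ t ht (hHm ▸ hd))
  have h := classes_mul_le H p hq
  rw [hHm] at h
  refine ⟨H, hHm, hH.nil, ?_, hq⟩
  refine le_trans (Nat.add_le_add_right (Nat.mul_le_mul_right _ ?_) m) h
  exact hkS.trans (kPi_le_classes hH)

theorem commutator_le_of_many {m k c p : ℕ} (hp : 2 ≤ p) (hmany : m < p * k)
    (h : k * (c * p ^ 2) + m ≤ m * c + p ^ 2 * m) : c ≤ p := by
  by_contra hc
  obtain ⟨d, rfl⟩ : ∃ d, c = p + 1 + d := ⟨c - (p + 1), by omega⟩
  obtain ⟨e, rfl⟩ : ∃ e, p = 2 + e := ⟨p - 2, by omega⟩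
  have h1 : (m + 1) * ((2 + e + 1 + d) * (2 + e)) ≤ (2 + e) * k * ((2 + e + 1 + d) * (2 + e)) :=
    Nat.mul_le_mul_right _ hmany
  have h3 : 0 ≤ d * m := Nat.zero_le _
  have h4 : 0 ≤ e * (d * m) := Nat.zero_le _
  have h5 : 0 ≤ e * (e * (d * m)) := Nat.zero_le _
  nlinarith

theorem commutator_lt_of_many {m k c p : ℕ} (hp : 2 ≤ p)
    (hmany : m * (p ^ 2 + p - 1) < p ^ 3 * k)
    (h : k * (c * p ^ 2) + m ≤ m * c + p ^ 2 * m) : c < p := by
  by_contra hc
  obtain ⟨d, rfl⟩ : ∃ d, c = p + d := ⟨c - p, by omega⟩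
  obtain ⟨e, rfl⟩ : ∃ e, p = 2 + e := ⟨p - 2, by omega⟩
  have h0 : (2 + e) ^ 2 + (2 + e) - 1 = (2 + e) ^ 2 + (1 + e) := by omega
  rw [h0] at hmany
  have h1 : (m * ((2 + e) ^ 2 + (1 + e)) + 1) * (2 + e + d) ≤ (2 + e) ^ 3 * k * (2 + e + d) :=
    Nat.mul_le_mul_right _ hmany
  have h2 := Nat.mul_le_mul_left (2 + e) h
  have h3 : 0 ≤ d * m := Nat.zero_le _
  have h4 : 0 ≤ e * (d * m) := Nat.zero_le _
  have h5 : 0 ≤ e * (e * (d * m)) := Nat.zero_le _
  nlinarith

theorem lt_of_threshold {m k p : ℕ} (hp : 2 ≤ p) (hmany : m * (p ^ 2 + p - 1) < p ^ 3 * k) :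
    m < p * k := by
  refine Nat.lt_of_mul_lt_mul_left (a := p ^ 2) ?_
  calc p ^ 2 * m ≤ (p ^ 2 + p - 1) * m := Nat.mul_le_mul_right _ (by omega)
    _ = m * (p ^ 2 + p - 1) := mul_comm _ _
    _ < p ^ 3 * k := hmany
    _ = p ^ 2 * (p * k) := by ring

end Cfsg.Agent.PiHall23
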