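import Cfsg.Agent.Lib.PiHall23.Cases
import Cfsg.Agent.Lib.Transfer.Abelian
import Cfsg.Prelude.Def_BaumannBlocks

/-!
# No subgroup of prime index centralizes `B`
-/

set_option autoImplicit false
set_option linter.unusedSectionVars false
set_option linter.style.haveILetI false

namespace Cfsg.Agent.PiHall23

open Subgroup Cfsg Cfsg.Agent.Classes23 FGS.ThreeSizes
open scoped Classical Pointwise

universe u

attribute [local instance] Classes23.finite_conjClasses

variable {G : Type u} [Group G] [Finite G] {p r : ℕ} {s : Finset ℕ} {B : Subgroup G}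
  [hp : Fact p.Prime]

theorem conj_centralizer_mem {Q : Subgroup G} {n c : G} (hn : n ∈ normalizer (Q : Set G))
    (hc : c ∈ centralizer (Q : Set G)) : n * c * n⁻¹ ∈ centralizer (Q : Set G) := by
  refine mem_centralizer_iff.mpr fun q hq => ?_
  have hq' : n⁻¹ * q * n ∈ Q := (mem_normalizer_iff''.mp hn q).mp hq
  have h1 := mem_centralizer_iff.mp hc _ hq'
  calc q * (n * c * n⁻¹) = n * (n⁻¹ * q * n * c) * n⁻¹ := by group
    _ = _ := by rw [h1]; group

theorem normalizer_le_normalizer_centralizer (Q : Subgroup G) :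
    normalizer (Q : Set G) ≤ normalizer (centralizer (Q : Set G) : Set G) := by
  intro n hn
  rw [mem_normalizer_iff]
  intro c
  refine ⟨conj_centralizer_mem hn, fun h => ?_⟩
  have h1 := conj_centralizer_mem (inv_mem hn) h
  simpa [mul_assoc] using h1

/-- The residual of a subgroup is normalized by whatever normalizes the subgroup. -/
theorem normalizer_le_normalizer_pResidualOf (C : Subgroup G) :
    normalizer (C : Set G) ≤ normalizer (pResidualOf p C : Set G) := by
  have key : ∀ n ∈ normalizer (C : Set G), ∀ k ∈ pResidualOf p C, n * k * n⁻¹ ∈ pResidualOf p C := by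
    rintro n hn _ ⟨k, hk, rfl⟩
    induction hk using closure_induction with
    | mem g hg =>
      refine ⟨⟨n * (g : G) * n⁻¹, (mem_normalizer_iff.mp hn (g : G)).mp g.2⟩,
        Transfer.mem_pResidual_of_coprime ?_, rfl⟩
      show (orderOf (⟨n * (g : G) * n⁻¹, _⟩ : C)).Coprime p
      rw [orderOf_mk, ← MulAut.conj_apply, MulEquiv.orderOf_eq, orderOf_coe]
      exact hg
    | one =>
      rw [map_one, mul_one, mul_inv_cancel]
      exact one_mem _
    | mul a b _ _ ha hb =>
      have h1 := mul_mem ha hb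
      simpa [mul_assoc] using h1
    | inv a _ ha =>
      simpa [mul_assoc] using inv_mem ha
  intro n hn
  rw [mem_normalizer_iff]
  intro k
  refine ⟨key n hn k, fun h => ?_⟩
  have h1 := key n⁻¹ (inv_mem hn) _ h
  simpa [mul_assoc] using h1

/-- Case A from a local Sylow subgroup. -/
theorem Setup.caseA' (S : Setup p r s B) {P : Sylow p G} {PB : Subgroup G}
    (hPB : Basics.IsSylowIn p (centralizer (B : Set G)) PB)
    (hPn : (P : Subgroup G) ≤ normalizer (PB : Set G))
    (hc : Nat.card (P : Subgroup G) = p * Nat.card PB)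
    (hnu : nu p (normalizer (PB : Set G) ⊓ normalizer (B : Set G)) =
      nu p (normalizer (PB : Set G))) : False := by
  have hv : nu p (normalizer (PB : Set G)) = (Nat.card G).factorization p := by
    refine le_antisymm (by rw [← nu_top (G := G)]; exact nu_mono le_top) ?_
    have h1 := card_pGroup_le P.2 hPn
    rw [P.card_eq_multiplicity] at h1
    exact (Nat.pow_le_pow_iff_right hp.out.one_lt).mp h1
  have hle : PB ≤ normalizer (PB : Set G) ⊓ normalizer (B : Set G) :=
    le_inf le_normalizer (hPB.1.trans (centralizer_le_normalizer (B : Set G)))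
  obtain ⟨T, hT, hPBT⟩ := exists_sylowIn_ge hPB.isPGroup hle
  rw [Basics.IsSylowIn, show (Nat.card ↥(normalizer (PB : Set G) ⊓ normalizer (B : Set G))).factorization p =
    (Nat.card G).factorization p from hnu.trans hv] at hT
  refine S.caseA (Sylow.ofCard T hT.2) ?_ hPB ?_ ?_
  · rw [Sylow.coe_ofCard]; exact hT.1.trans inf_le_right
  · rw [Sylow.coe_ofCard]; exact hPBT
  · rw [Sylow.coe_ofCard, hT.2, ← P.card_eq_multiplicity, hc]

/-- A subgroup of prime index in a `p`-group is normal. -/
theorem le_normalizer_of_index (P : Sylow p G) {PB : Subgroup G} (hle : PB ≤ (P : Subgroup G))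
    (hc : Nat.card (P : Subgroup G) = p * Nat.card PB) :
    (P : Subgroup G) ≤ normalizer (PB : Set G) := by
  set Q := PB.subgroupOf (P : Subgroup G)
  have hne : Q < ⊤ := by
    refine lt_top_iff_ne_top.mpr fun h => ?_
    have h1 := card_le_of_le (subgroupOf_eq_top.mp h)
    have := hp.out.one_lt
    have := Nat.card_pos (α := PB)
    nlinarith
  haveI := P.2.isNilpotent
  obtain ⟨z, hz, hzQ⟩ := SetLike.exists_of_lt (Group.normalizerCondition_of_isNilpotent Q hne)
  have hzn : (z : G) ∈ normalizer (PB : Set G) := by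
    refine mem_normalizer_of_map_le ?_
    rintro _ ⟨x, hx, rfl⟩
    exact (mem_normalizer_iff.mp hz ⟨x, hle hx⟩).mp hx
  have := eq_of_not_le hc (le_inf hle le_normalizer)
    (inf_le_left : (P : Subgroup G) ⊓ normalizer (PB : Set G) ≤ _) fun h => hzQ (h ⟨z.2, hzn⟩)
  exact this.ge.trans inf_le_right

/-- Index `p` is impossible. -/
theorem Setup.false_of_index (S : Setup p r s B) (P : Sylow p G) {PB : Subgroup G}
    (hPB : Basics.IsSylowIn p (centralizer (B : Set G)) PB) (hle : PB ≤ (P : Subgroup G))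
    (hc : Nat.card (P : Subgroup G) = p * Nat.card PB) : False := by
  haveI := Fintype.ofFinite G
  set M := Mp s (Nat.card G) with hM
  have hPn := le_normalizer_of_index P hle hc
  set Mn := normalizer (PB : Set G) with hMn
  set C := centralizer (PB : Set G) with hC
  have hCM : C ≤ Mn := centralizer_le_normalizer (PB : Set G)
  have hBC : B ≤ C := fun b hb => mem_centralizer_iff.mpr fun x hx =>
    ((mem_centralizer_iff.mp (hPB.1 hx)) b hb).symm
  have hCn : Mn ≤ normalizer (C : Set G) := normalizer_le_normalizer_centralizer PB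
  have hPin : Basics.IsSylowIn p Mn (P : Subgroup G) := by
    refine ⟨hPn, le_antisymm (card_pGroup_le P.2 hPn) ?_⟩
    rw [P.card_eq_multiplicity]
    refine Nat.pow_le_pow_right hp.out.pos ?_
    show nu p Mn ≤ _
    rw [← nu_top (G := G)]
    exact nu_mono le_top
  set Pc := (P : Subgroup G) ⊓ C with hPc
  have hPcS : Basics.IsSylowIn p C Pc := isSylowIn_inf hCM hCn hPin
  -- conjugates of `B` inside a subgroup of `C` are conjugate there
  have hcover : ∀ L : Subgroup G, B ≤ L → Mn ≤ normalizer (L : Set G) →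
      ∀ m ∈ Mn, ∃ l ∈ L, l * m ∈ normalizer (B : Set G) := by
    intro L hBL hnL m hm
    obtain ⟨l, hl, hlU⟩ := S.hall.exists_conj_le hBL
      ((pointwise_smul_le_pointwise_smul_iff.mpr hBL).trans
        (Basics.conj_smul_eq_self_iff.mpr (hnL hm)).le)
      (fun t ht htd => S.hall.mem_of_dvd ht (by rwa [Basics.card_conj_smul] at htd))
    refine ⟨l, hl, Basics.conj_smul_eq_self_iff.mp ?_⟩
    rw [← Basics.conj_smul_conj_smul]
    exact eq_of_le_of_card_ge hlU (by rw [Basics.card_conj_smul, Basics.card_conj_smul])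
  by_cases hPcB : Pc ≤ PB
  · -- the centraliser adds nothing
    refine S.caseA' hPB hPn hc (nu_inf_eq_of_cover hCM (hcover C hBC hCn) ?_)
    refine le_antisymm (nu_mono inf_le_left) ?_
    have h1 := card_pGroup_le hPcS.isPGroup (le_inf (inf_le_right : Pc ≤ C)
      (hPcB.trans (hPB.1.trans (centralizer_le_normalizer (B : Set G)))))
    rw [hPcS.2] at h1
    exact (Nat.pow_le_pow_iff_right hp.out.one_lt).mp h1
  obtain ⟨c₀, hc₀, hc₀B⟩ := SetLike.not_le_iff_exists.mp hPcB
  have hPjoin : PB ⊔ Pc = (P : Subgroup G) :=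
    eq_of_not_le hc le_sup_left (sup_le hle inf_le_left) fun h => hPcB (le_sup_right.trans h)
  have hcen : ∀ a ∈ Pc, ∀ g ∈ (P : Subgroup G), Commute g a := by
    intro a ha
    have hX : PB ≤ (P : Subgroup G) ⊓ centralizer ({a} : Set G) := fun x hx =>
      ⟨hle hx, mem_centralizer_singleton_iff.mpr (mem_centralizer_iff.mp ha.2 x hx)⟩
    have hXP := eq_of_not_le hc hX inf_le_left fun h => ?_
    · intro g hg
      exact mem_centralizer_singleton_iff.mp (hXP.ge hg).2
    · by_cases haB : a ∈ PB
      · exact hc₀B (h ⟨hc₀.1, mem_centralizer_singleton_iff.mpr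
          ((mem_centralizer_iff.mp hc₀.2 a haB)).symm⟩)
      · exact haB (h ⟨ha.1, mem_centralizer_singleton_iff.mpr rfl⟩)
  obtain ⟨Q, hQ⟩ := hPcS.exists_sylow
  have hQc : ∀ z : C, z ∈ (Q : Subgroup C) ↔ (z : G) ∈ Pc := by
    intro z
    rw [← hQ]
    exact ⟨fun h => ⟨z, h, rfl⟩, fun ⟨w, hw, hwz⟩ => Subtype.ext hwz ▸ hw⟩
  by_cases hBurn : normalizer ((Q : Subgroup C) : Set C) ≤ centralizer ((Q : Subgroup C) : Set C)
  · -- a normal complement in the centraliser
    have hnc := Transfer.hasNormalPComplement_of_normalizer_le Q hBurn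
    have hKp : ¬ p ∣ Nat.card (pResidualOf p C) := by
      rw [pResidualOf, card_map_of_injective C.subtype_injective]
      exact Transfer.hasNormalPComplement_iff.mp hnc
    have hKC : pResidualOf p C ≤ C := map_subtype_le _
    have hBK : B ≤ pResidualOf p C := by
      intro b hb
      refine ⟨⟨b, hBC hb⟩, Transfer.mem_pResidual_of_coprime ?_, rfl⟩
      rw [orderOf_mk]
      refine ((hp.out.coprime_iff_not_dvd).mpr fun h => S.not_mem ?_).symm
      exact S.hall.mem_of_dvd hp.out (h.trans (Subgroup.orderOf_dvd_natCard _ hb))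
    refine S.caseA' hPB hPn hc (nu_inf_eq_of_cover (hKC.trans hCM) (hcover _ hBK
      (hCn.trans (normalizer_le_normalizer_pResidualOf C))) ?_)
    rw [nu, nu, Nat.factorization_eq_zero_of_not_dvd hKp, Nat.factorization_eq_zero_of_not_dvd
      fun h => hKp (h.trans (card_dvd_of_le inf_le_left))]
  obtain ⟨w, hw, hwc⟩ := SetLike.not_le_iff_exists.mp hBurn
  have hwPc : ∀ x ∈ Pc, (w : G) * x * (w : G)⁻¹ ∈ Pc := fun x hx =>
    (hQc _).mp ((mem_normalizer_iff.mp hw ⟨x, hx.2⟩).mp ((hQc _).mpr hx))
  obtain ⟨x₁, hx₁, hwx₁⟩ : ∃ x ∈ Pc, ¬ Commute (w : G) x := by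
    by_contra! h
    exact hwc (mem_centralizer_iff.mpr fun z hz => Subtype.ext (h z ((hQc z).mp hz)).symm)
  have hwPB : ∀ x ∈ PB, Commute (w : G) x := fun x hx => ((mem_centralizer_iff.mp w.2) x hx).symm
  have hwP : (w : G) ∈ normalizer ((P : Subgroup G) : Set G) := by
    refine mem_normalizer_of_map_le ?_
    conv_lhs => rw [← hPjoin]
    rw [Subgroup.map_sup]
    refine sup_le ?_ ?_
    · rintro _ ⟨x, hx, rfl⟩
      show (w : G) * x * (w : G)⁻¹ ∈ (P : Subgroup G)
      rw [mul_inv_eq_iff_eq_mul.mpr (hwPB x hx).eq]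
      exact hle hx
    · rintro _ ⟨x, hx, rfl⟩
      exact (hwPc x hx).1
  have hfix : ∀ x ∈ (P : Subgroup G), Commute (w : G) x → x ∈ PB := by
    intro x hx hwx
    by_contra hxB
    have h1 := eq_of_not_le hc (X := (P : Subgroup G) ⊓ centralizer ({(w : G)} : Set G))
      (fun z hz => ⟨hle hz, mem_centralizer_singleton_iff.mpr (hwPB z hz).eq.symm⟩) inf_le_left
      fun h => hxB (h ⟨hx, mem_centralizer_singleton_iff.mpr hwx.eq.symm⟩)
    exact hwx₁ (show Commute (w : G) x₁ from (mem_centralizer_singleton_iff.mp (h1.ge hx₁.1).2).symm)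
  -- the centraliser has many classes
  set kC := kPi s ↥C with hkC
  have hmain := kPi_insert_mul_le (σ := s) P (2 * r)
    (fun z => if z ∈ PB then 2 * r * kC else M) ?_
  swap
  · intro x hx
    by_cases hmeet : ∃ x' ∈ PB, IsConj x x'
    · obtain ⟨x', hx', hxx'⟩ := hmeet
      refine ⟨{x'}, fun z hz => by rw [Finset.mem_singleton] at hz; subst hz; exact ⟨hle hx', hxx'⟩, ?_⟩
      rw [Finset.sum_singleton, if_pos hx', mul_comm]
      refine Nat.mul_le_mul_left _ ((kPi_centralizer_congr hxx').trans (S.hall.kPi_le hBC ?_))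
      exact centralizer_le (Set.singleton_subset_iff.mpr hx')
    · push Not at hmeet
      have hxB : x ∉ PB := fun h => hmeet x h (IsConj.refl x)
      have hne : x ≠ (w : G) * x * (w : G)⁻¹ := fun e => hxB (hfix x hx (mul_inv_eq_iff_eq_mul.mp e.symm))
      have hxp : ∃ k, orderOf x = p ^ k := by
        obtain ⟨k, hk⟩ := IsPGroup.iff_orderOf.mp P.2 ⟨x, hx⟩
        exact ⟨k, by rw [← hk, orderOf_mk]⟩
      refine ⟨{x, (w : G) * x * (w : G)⁻¹}, ?_, ?_⟩
      · intro y hy
        simp only [Finset.mem_insert, Finset.mem_singleton] at hy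
        rcases hy with rfl | rfl
        · exact ⟨hx, IsConj.refl _⟩
        · exact ⟨conj_mem_of_mem_normalizer hwP hx, isConj_iff.mpr ⟨(w : G), rfl⟩⟩
      · rw [Finset.sum_pair hne, if_neg hxB,
          if_neg fun h => hmeet _ h (isConj_iff.mpr ⟨(w : G), rfl⟩)]
        have := S.bad hPB hxp hmeet
        rw [← hM] at this
        nlinarith
  have hbig : M * (r + 1) < 2 * r * kC := by
    have hsum := sum_ite_two (P : Subgroup G) PB hle (2 * r * kC) M
    have hmany := S.many
    rw [← P.card_eq_multiplicity, hc, mul_assoc, ← hM] at hmany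
    have hk : Nat.card PB * M < kPi (insert p s) G := Nat.lt_of_mul_lt_mul_left hmany
    have h1 : (Nat.card PB * M + 1) * (2 * r) ≤ kPi (insert p s) G * (2 * r) :=
      Nat.mul_le_mul_right _ hk
    have hr0 : 0 < r := Nat.lt_of_le_of_lt (Nat.zero_le _) S.p_lt
    rw [hc] at hsum
    by_contra hle'
    have h2 : 2 * r * kC * Nat.card PB ≤ M * (r + 1) * Nat.card PB :=
      Nat.mul_le_mul_right _ (not_lt.mp hle')
    have h3 : M * Nat.card PB * (p + 1) ≤ M * Nat.card PB * r :=
      Nat.mul_le_mul_left _ S.p_lt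
    nlinarith
  -- every prime of `s` has a normal complement in the centraliser
  have hCt : ∀ t ∈ s, (Nat.card C).factorization t = (Nat.card G).factorization t :=
    fun t ht => S.hall.nu_eq_of_le hBC ht
  have hnc : ∀ t ∈ s, HasNormalPComplement t C := by
    intro t ht
    haveI : Fact t.Prime := ⟨S.hall.prime t ht⟩
    let R : Sylow t C := default
    by_contra hno
    have h1 := two_mul_kP_mul_le R fun h => hno (Transfer.hasNormalPComplement_of_normalizer_le R h)
    have hRc : Nat.card (R : Subgroup C) = t ^ (Nat.card G).factorization t := by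
      rw [R.card_eq_multiplicity, hCt t ht]
    have hs' : ∀ a ∈ s.erase t, a.Prime := fun a ha => S.hall.prime a (Finset.mem_of_mem_erase ha)
    have h2 := Classes23.kPi_insert_le (G := C) (p := t) (σ := s.erase t)
      (B := Mp (s.erase t) (Nat.card G)) fun D => (kPi_le_Mp hs' D).trans
        (Nat.le_of_dvd (Mp_pos hs' _) (Mp_dvd Nat.card_pos.ne' (card_subgroup_dvd_card C)))
    rw [Finset.insert_erase ht, ← hkC] at h2
    have hMe : M = t ^ (Nat.card G).factorization t * Mp (s.erase t) (Nat.card G) :=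
      (Finset.mul_prod_erase s (fun a => a ^ (Nat.card G).factorization a) ht).symm
    rw [hRc] at h1
    have h3 : 2 * t * kC ≤ M * (t + 1) := by
      calc 2 * t * kC ≤ 2 * t * (kP t C * Mp (s.erase t) (Nat.card G)) := Nat.mul_le_mul_left _ h2
        _ = 2 * t * kP t C * Mp (s.erase t) (Nat.card G) := by ring
        _ ≤ t ^ (Nat.card G).factorization t * (t + 1) * Mp (s.erase t) (Nat.card G) :=
          Nat.mul_le_mul_right _ h1
        _ = M * (t + 1) := by rw [hMe]; ring
    have h4 : M * r ≤ M * t := Nat.mul_le_mul_left _ (S.r_le t ht)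
    have h5 : r * (2 * t * kC) ≤ r * (M * (t + 1)) := Nat.mul_le_mul_left r h3
    have h6 : t * (M * (r + 1)) < t * (2 * r * kC) :=
      Nat.mul_lt_mul_of_pos_left hbig (S.hall.prime t ht).pos
    nlinarith
  have hBs : Nat.card (B.subgroupOf C) = M := by
    rw [Nat.card_congr (subgroupOfEquivOfLe hBC).toEquiv, S.hall.card_eq]
  have hBi : (Nat.card (B.subgroupOf C)).Coprime (B.subgroupOf C).index := by
    refine Nat.coprime_of_dvd fun t ht h1 h2 => ?_
    rw [hBs, hM] at h1
    have hts := mem_of_dvd_Mp S.hall.prime ht h1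
    have h3 := congrArg (fun n => n.factorization t) (card_mul_index (B.subgroupOf C))
    simp only [hBs, hM, Nat.factorization_mul (Mp_pos S.hall.prime _).ne' index_ne_zero_of_finite,
      Finsupp.add_apply, Mp_factorization S.hall.prime, if_pos hts, hCt t hts] at h3
    have h4 := ht.factorization_pos_of_dvd index_ne_zero_of_finite h2
    omega
  obtain ⟨N, hN, hNB⟩ := Transfer.exists_normal_complement_of_forall (B.subgroupOf C) hBi
    fun t ht htd => hnc t (mem_of_dvd_Mp S.hall.prime ht (by rwa [hBs] at htd))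
  haveI := hN
  set K := N.map C.subtype with hK
  have hKC : K ≤ C := map_subtype_le _
  have hKn : ∀ k ∈ C, ∀ x ∈ K, k * x * k⁻¹ ∈ K := by
    rintro k hk _ ⟨x, hx, rfl⟩
    exact ⟨⟨k, hk⟩ * x * ⟨k, hk⟩⁻¹, hN.conj_mem x hx _, rfl⟩
  have hKc : Nat.card K * M = Nat.card C := by
    rw [hK, card_map_of_injective C.subtype_injective, ← hBs]
    exact hNB.card_mul_card
  have hKt : ∀ t ∈ s, ¬ t ∣ Nat.card K := by
    intro t ht hd
    have h3 := congrArg (fun n => n.factorization t) hKc
    simp only [Nat.factorization_mul Nat.card_pos.ne' (Mp_pos S.hall.prime _).ne', hM,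
      Finsupp.add_apply, Mp_factorization S.hall.prime, if_pos ht, hCt t ht] at h3
    have h4 := (S.hall.prime t ht).factorization_pos_of_dvd Nat.card_pos.ne' hd
    omega
  have hPcK : Pc ≤ K := by
    intro x hx
    have hcop : M.Coprime (orderOf (⟨x, hx.2⟩ : C)) := by
      rw [orderOf_mk]
      obtain ⟨k, hk⟩ := IsPGroup.iff_orderOf.mp P.2 ⟨x, hx.1⟩
      rw [orderOf_mk] at hk
      rw [hk]
      exact ((hp.out.coprime_iff_not_dvd.mpr fun h =>
        S.not_mem (mem_of_dvd_Mp S.hall.prime hp.out h)).symm).pow_right k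
    obtain ⟨l, hl⟩ := exists_pow_eq_self_of_coprime hcop
    refine ⟨⟨x, hx.2⟩, hl ▸ pow_mem ?_ l, rfl⟩
    rw [show M = N.index by rw [← hBs, ← hNB.symm.index_eq_card]]
    exact pow_index_mem _ _
  have hPcK' : Basics.IsSylowIn p K Pc := by
    refine ⟨hPcK, le_antisymm (card_pGroup_le hPcS.isPGroup hPcK) ?_⟩
    rw [hPcS.2]
    exact Nat.pow_le_pow_right hp.out.pos (nu_mono hKC)
  have hcov : ∀ m ∈ C, ∃ l ∈ K, l * m ∈ normalizer (Pc : Set G) := by
    intro m hm
    have h1 : Basics.IsSylowIn p K (MulAut.conj m • Pc) := hPcK'.conj_smul (by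
      rw [mem_normalizer_iff]
      exact fun x => ⟨hKn m hm x, fun h => by simpa [mul_assoc] using hKn m⁻¹ (inv_mem hm) _ h⟩)
    obtain ⟨l, hl, hlU⟩ := h1.exists_conj hPcK'
    refine ⟨l, hl, Basics.conj_smul_eq_self_iff.mp ?_⟩
    rw [← Basics.conj_smul_conj_smul]
    exact hlU
  set C' := C ⊓ centralizer (Pc : Set G) with hC'
  have hC't : ∀ t ∈ s, (Nat.card C').factorization t = (Nat.card G).factorization t := by
    intro t ht
    haveI : Fact t.Prime := ⟨S.hall.prime t ht⟩
    have h1 : nu t (C ⊓ normalizer (Pc : Set G)) = nu t C := nu_inf_eq_of_cover hKC hcov (by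
      rw [nu, nu, Nat.factorization_eq_zero_of_not_dvd (hKt t ht),
        Nat.factorization_eq_zero_of_not_dvd fun h => hKt t ht (h.trans (card_dvd_of_le inf_le_left))])
    obtain ⟨T, hT, -⟩ := exists_sylowIn_ge (p := t) IsPGroup.of_bot
      (bot_le : ⊥ ≤ C ⊓ normalizer (Pc : Set G))
    have hTC : T ≤ centralizer (Pc : Set G) := by
      refine le_centralizer_of_lt (p := p) (S.p_lt.trans_le (S.r_le t ht))
        (Z := Pc ⊓ PB) hPcS.isPGroup inf_le_left ?_ hT.isPGroup (hT.1.trans inf_le_right) ?_
      · have h2 : Nat.card Pc ∣ p * Nat.card ↥(Pc ⊓ PB) := by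
          have h3 : (PB.relIndex Pc) ∣ p := by
            haveI hN' : (PB.subgroupOf (P : Subgroup G)).Normal :=
              normal_subgroupOf_iff_le_normalizer hle |>.mpr hPn
            have h4 := relIndex_dvd_index_of_normal (PB.subgroupOf (P : Subgroup G))
              (Pc.subgroupOf (P : Subgroup G))
            rw [relIndex_subgroupOf (inf_le_left : Pc ≤ _)] at h4
            refine h4.trans (dvd_of_eq ?_)
            have h5 := card_mul_index (PB.subgroupOf (P : Subgroup G))
            rw [Nat.card_congr (subgroupOfEquivOfLe hle).toEquiv, hc, mul_comm p] at h5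
            exact Nat.eq_of_mul_eq_mul_left Nat.card_pos h5
          have h6 := card_mul_index ((Pc ⊓ PB).subgroupOf Pc)
          rw [Nat.card_congr (subgroupOfEquivOfLe (inf_le_left : Pc ⊓ PB ≤ Pc)).toEquiv,
            inf_subgroupOf_left PB Pc] at h6
          rw [← h6, mul_comm p]
          exact Nat.mul_dvd_mul_left _ h3
        obtain ⟨j, hj⟩ := card_dvd_of_le (inf_le_left : Pc ⊓ PB ≤ Pc)
        rw [hj, mul_comm p] at h2
        rcases (Nat.dvd_prime hp.out).mp (Nat.dvd_of_mul_dvd_mul_left Nat.card_pos h2) with rfl | rfl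
        · exact absurd ((eq_of_le_of_card_ge (inf_le_left : Pc ⊓ PB ≤ Pc)
            (le_of_eq (by rw [hj, mul_one]))).ge.trans inf_le_right) hPcB
        · rw [hj, mul_comm]
      · exact hT.1.trans (inf_le_left.trans (centralizer_le (fun z hz => (mem_inf.mp hz).2)))
    refine le_antisymm (by rw [← nu_top (G := G) (p := t)]; exact nu_mono le_top) ?_
    have h2 := card_pGroup_le hT.isPGroup (le_inf (hT.1.trans inf_le_left) hTC : T ≤ C')
    rw [hT.2] at h2
    refine le_trans (le_of_eq ?_) ((Nat.pow_le_pow_iff_right (S.hall.prime t ht).one_lt).mp h2)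
    exact ((h1.trans (hCt t ht))).symm
  haveI hN' : (K.subgroupOf C').Normal :=
    ⟨fun x hx g => hKn g (mem_inf.mp g.2).1 x hx⟩
  have hcard' : Nat.card (K.subgroupOf C') ∣ Nat.card K := by
    refine (dvd_of_eq ?_).trans (card_dvd_of_le (inf_le_left : K ⊓ C' ≤ K))
    rw [← inf_subgroupOf_right K C', Nat.card_congr (subgroupOfEquivOfLe inf_le_right).toEquiv]
  have hidx : (K.subgroupOf C').index = M := by
    haveI hN2 : (K.subgroupOf C).Normal := ⟨fun x hx g => hKn g g.2 x hx⟩
    have hd : (K.subgroupOf C').index ∣ M := by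
      have h4 := relIndex_dvd_index_of_normal (K.subgroupOf C) (C'.subgroupOf C)
      rw [relIndex_subgroupOf (inf_le_left : C' ≤ C)] at h4
      refine h4.trans (dvd_of_eq ?_)
      have h5 := card_mul_index (K.subgroupOf C)
      rw [Nat.card_congr (subgroupOfEquivOfLe hKC).toEquiv, ← hKc] at h5
      exact Nat.eq_of_mul_eq_mul_left Nat.card_pos h5
    refine Nat.eq_of_factorization_eq index_ne_zero_of_finite (Mp_pos S.hall.prime _).ne' fun t => ?_
    by_cases ht : t ∈ s
    · rw [hM, Mp_factorization S.hall.prime, if_pos ht, ← hC't t ht,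
        ← card_mul_index (K.subgroupOf C'), Nat.factorization_mul Nat.card_pos.ne' index_ne_zero_of_finite,
        Finsupp.add_apply, Nat.factorization_eq_zero_of_not_dvd fun h => hKt t ht (h.trans hcard'),
        zero_add]
    · have h6 := (Nat.factorization_le_iff_dvd index_ne_zero_of_finite (Mp_pos S.hall.prime _).ne').mpr hd t
      rw [Mp_factorization S.hall.prime, if_neg ht] at h6 ⊢
      omega
  obtain ⟨U, hU⟩ := exists_right_complement'_of_coprime (N := K.subgroupOf C') (by
    rw [hidx]
    exact Nat.coprime_of_dvd fun t ht h1 h2 =>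
      hKt t (mem_of_dvd_Mp S.hall.prime ht h2) (h1.trans hcard'))
  set U' := U.map C'.subtype with hU'
  have hU'c : Nat.card U' = M := by
    rw [hU', card_map_of_injective C'.subtype_injective, ← hU.symm.index_eq_card, hidx]
  have hU'le : U' ≤ C' := map_subtype_le _
  obtain ⟨c, hcC, hcU⟩ := S.hall.exists_conj_le hBC (hU'le.trans inf_le_left)
    fun t ht htd => mem_of_dvd_Mp S.hall.prime ht (by rwa [hU'c] at htd)
  have hUB : MulAut.conj c • U' = B := eq_of_le_of_card_ge hcU (by
    rw [Basics.card_conj_smul, hU'c, S.hall.card_eq])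
  have hfinal : MulAut.conj c • (P : Subgroup G) ≤ centralizer (B : Set G) := by
    rw [← hPjoin, Subgroup.smul_sup]
    refine sup_le ?_ ?_
    · intro x hx
      rw [Basics.mem_conj_smul] at hx
      have h1 := mem_centralizer_iff.mp hcC _ hx
      have h2 : x = c⁻¹ * x * c := (mul_right_cancel (h1.trans (by group))).symm
      rw [h2]; exact hPB.1 hx
    · intro x hx
      rw [Basics.mem_conj_smul] at hx
      refine mem_centralizer_iff.mpr fun b hb => ?_
      rw [SetLike.mem_coe, ← hUB, Basics.mem_conj_smul] at hb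
      have h1 := mem_centralizer_iff.mp (hU'le hb).2 _ hx
      calc b * x = c * ((c⁻¹ * b * c) * (c⁻¹ * x * c)) * c⁻¹ := by group
        _ = _ := by rw [← h1]; group
  have h1 := card_pGroup_le (P.2.map (MulAut.conj c).toMonoidHom) hfinal
  have h2 : Nat.card ↥(MulAut.conj c • (P : Subgroup G)) ≤ Nat.card PB := by
    rw [hPB.2]; exact h1
  rw [Basics.card_conj_smul, hc] at h2
  have := Nat.card_pos (α := PB)
  have := hp.out.two_le
  nlinarith

end Cfsg.Agent.PiHall23
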