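import Cfsg.Agent.Lib.PiHall23.Count
import Cfsg.Agent.Lib.FGS.WielandtHall
import Cfsg.Agent.Lib.Transfer.Hall

/-!
# Local lemmas for nilpotent Hall subgroups from many classes
-/

set_option autoImplicit false
set_option linter.unusedSectionVars false
set_option linter.style.haveILetI false

namespace Cfsg.Agent.PiHall23

open Subgroup Cfsg Cfsg.Agent.Classes23 FGS.ThreeSizes
open scoped Classical Pointwise

universe u

attribute [local instance] Classes23.finite_conjClasses

variable {G : Type u} [Group G] [Finite G]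

/-- `B` is a nilpotent subgroup of order the full `s`-part. -/
structure IsNilHall (s : Finset ℕ) (B : Subgroup G) : Prop where
  prime : ∀ t ∈ s, t.Prime
  card_eq : Nat.card B = Mp s (Nat.card G)
  nil : Group.IsNilpotent B

theorem IsNilHall.nu_eq {s : Finset ℕ} {B : Subgroup G} (h : IsNilHall s B) {t : ℕ} (ht : t ∈ s) :
    nu t B = (Nat.card G).factorization t := by
  rw [nu, h.card_eq, Mp_factorization h.prime, if_pos ht]

theorem IsNilHall.nu_eq_of_le {s : Finset ℕ} {B : Subgroup G} (h : IsNilHall s B) {D : Subgroup G}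
    (hBD : B ≤ D) {t : ℕ} (ht : t ∈ s) : nu t D = (Nat.card G).factorization t :=
  le_antisymm (by rw [← nu_top (G := G)]; exact nu_mono le_top) (h.nu_eq ht ▸ nu_mono hBD)

theorem IsNilHall.mem_of_dvd {s : Finset ℕ} {B : Subgroup G} (h : IsNilHall s B) {t : ℕ}
    (ht : t.Prime) (hd : t ∣ Nat.card B) : t ∈ s :=
  mem_of_dvd_Mp h.prime ht (h.card_eq ▸ hd)

theorem IsNilHall.exists_conj_le {s : Finset ℕ} {B : Subgroup G} (h : IsNilHall s B)
    {D : Subgroup G} (hBD : B ≤ D) {U : Subgroup G} (hU : U ≤ D)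
    (hs : ∀ t : ℕ, t.Prime → t ∣ Nat.card U → t ∈ s) : ∃ x ∈ D, MulAut.conj x • U ≤ B :=
  FGS.WielandtHall.exists_conj_le _ D B U rfl hU hBD h.nil fun t ht htd => by
    rw [h.nu_eq (hs t ht htd), h.nu_eq_of_le hBD (hs t ht htd)]

theorem IsNilHall.exists_isConj {s : Finset ℕ} {B : Subgroup G} (h : IsNilHall s B)
    {D : Subgroup G} (hBD : B ≤ D) (g : D) (hg : IsPiEl s g) :
    ∃ t : D, (t : G) ∈ B ∧ IsConj g t := by
  obtain ⟨x, hx, hxU⟩ := h.exists_conj_le hBD (zpowers_le.mpr g.2) fun t ht htd => by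
    rw [Nat.card_zpowers, orderOf_coe] at htd
    exact hg t ht htd
  refine ⟨⟨x, hx⟩ * g * ⟨x, hx⟩⁻¹, hxU ?_, isConj_iff.mpr ⟨⟨x, hx⟩, rfl⟩⟩
  exact Basics.conj_mem_conj_smul (mem_zpowers (g : G))

theorem IsNilHall.kPi_le {s : Finset ℕ} {B : Subgroup G} (h : IsNilHall s B)
    {A D : Subgroup G} (hBA : B ≤ A) (hAD : A ≤ D) : kPi s D ≤ kPi s A := by
  have hrep : ∀ c : {c : ConjClasses ↥D // ∀ x ∈ c.carrier, IsPiEl s x},
      ∃ a : A, IsPiEl s a ∧ ConjClasses.mk (⟨a, hAD a.2⟩ : D) = c.1 := by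
    intro c
    obtain ⟨y, hy⟩ := ConjClasses.mk_surjective c.1
    obtain ⟨t, htB, hyt⟩ := h.exists_isConj (hBA.trans hAD) y
      (c.2 y (ConjClasses.mem_carrier_iff_mk_eq.mpr hy))
    have htc : ConjClasses.mk t = c.1 := by
      rw [← hy]; exact (ConjClasses.mk_eq_mk_iff_isConj.mpr hyt).symm
    refine ⟨⟨t, hBA htB⟩, fun r hr hrd => c.2 t (ConjClasses.mem_carrier_iff_mk_eq.mpr htc) r hr ?_, htc⟩
    rwa [← orderOf_coe] at hrd ⊢
  choose a ha hac using hrep
  refine Nat.card_le_card_of_injective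
    (fun c => (⟨ConjClasses.mk (a c), fun y hy r hr hry => ?_⟩ :
      {c : ConjClasses ↥A // ∀ x ∈ c.carrier, ∀ r : ℕ, r.Prime → r ∣ orderOf x → r ∈ s})) ?_
  · obtain ⟨w, rfl⟩ := isConj_iff.mp
      (ConjClasses.mk_eq_mk_iff_isConj.mp (ConjClasses.mem_carrier_iff_mk_eq.mp hy).symm)
    rw [← MulAut.conj_apply, MulEquiv.orderOf_eq] at hry
    exact ha c r hr hry
  · intro c d he
    refine Subtype.ext ?_
    rw [← hac c, ← hac d]
    exact congrArg (ConjClasses.map (inclusion hAD)) (congrArg Subtype.val he)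

/-- A subgroup covering all cosets gives the same index. -/
theorem nu_inf_eq_of_cover {t : ℕ} {L M N : Subgroup G} (hLM : L ≤ M)
    (h : ∀ m ∈ M, ∃ l ∈ L, l * m ∈ N) (hnu : nu t (L ⊓ N) = nu t L) :
    nu t (M ⊓ N) = nu t M := by
  let f : L ⧸ N.subgroupOf L → M ⧸ N.subgroupOf M :=
    Quotient.map' (inclusion hLM) fun a b hab => by
      rw [QuotientGroup.leftRel_apply] at hab ⊢
      exact hab
  have hf : Function.Bijective f := by
    constructor
    · intro a b
      induction a using QuotientGroup.induction_on with | _ a =>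
      induction b using QuotientGroup.induction_on with | _ b =>
      intro he
      have he' : (QuotientGroup.mk (inclusion hLM a) : M ⧸ N.subgroupOf M) =
          QuotientGroup.mk (inclusion hLM b) := he
      rw [QuotientGroup.eq] at he' ⊢
      exact he'
    · intro c
      induction c using QuotientGroup.induction_on with | _ m =>
      obtain ⟨l, hl, hlm⟩ := h m m.2
      refine ⟨QuotientGroup.mk (⟨l, hl⟩⁻¹ : L), ?_⟩
      show (QuotientGroup.mk (inclusion hLM ⟨l, hl⟩⁻¹) : M ⧸ N.subgroupOf M) = QuotientGroup.mk m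
      rw [QuotientGroup.eq]
      show (l⁻¹)⁻¹ * (m : G) ∈ N
      rwa [inv_inv]
  have hidx : N.relIndex L = N.relIndex M := Nat.card_eq_of_bijective f hf
  have hc : ∀ X : Subgroup G, Nat.card ↥(X ⊓ N) * N.relIndex X = Nat.card X := by
    intro X
    have h1 := card_mul_index ((X ⊓ N).subgroupOf X)
    rw [Nat.card_congr (subgroupOfEquivOfLe (inf_le_left : X ⊓ N ≤ X)).toEquiv] at h1
    have h2 : (X ⊓ N).subgroupOf X = N.subgroupOf X := inf_subgroupOf_left N X
    rw [h2] at h1
    exact h1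
  have h1 := hc L
  have h2 := hc M
  rw [hidx] at h1
  have e1 := congrArg (fun n => n.factorization t) h1
  have e2 := congrArg (fun n => n.factorization t) h2
  have h0 : N.relIndex M ≠ 0 := index_ne_zero_of_finite
  simp only [Nat.factorization_mul Nat.card_pos.ne' h0, Finsupp.add_apply] at e1 e2
  simp only [nu] at hnu ⊢
  omega

/-- A Sylow subgroup of `L ⊴ M` is cut out by a Sylow subgroup of `M`. -/
theorem isSylowIn_inf {p : ℕ} [hp : Fact p.Prime] {L M P : Subgroup G} (hLM : L ≤ M)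
    (hn : M ≤ normalizer (L : Set G)) (hP : Basics.IsSylowIn p M P) :
    Basics.IsSylowIn p L (P ⊓ L) := by
  obtain ⟨T, hT, -⟩ := exists_sylowIn_ge (p := p) IsPGroup.of_bot (bot_le : ⊥ ≤ L)
  obtain ⟨P₁, hP₁, hTP₁⟩ := exists_sylowIn_ge hT.isPGroup (hT.1.trans hLM)
  obtain ⟨k, hk, hkP⟩ := hP₁.exists_conj hP
  have hle : MulAut.conj k • T ≤ P ⊓ L :=
    le_inf (hkP ▸ pointwise_smul_le_pointwise_smul_iff.mpr hTP₁)
      ((pointwise_smul_le_pointwise_smul_iff.mpr hT.1).trans
        (Basics.conj_smul_eq_self_iff.mpr (hn hk)).le)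
  refine ⟨inf_le_right, le_antisymm
    (card_pGroup_le (hP.isPGroup.to_le inf_le_left) inf_le_right) ?_⟩
  rw [← hT.2, ← Basics.card_conj_smul k T]
  exact card_le_of_le hle

/-- Between a subgroup of prime index and the whole there is nothing. -/
theorem eq_of_not_le {p : ℕ} [hp : Fact p.Prime] {P Q X : Subgroup G}
    (hc : Nat.card P = p * Nat.card Q) (hQX : Q ≤ X) (hXP : X ≤ P) (hne : ¬ X ≤ Q) : X = P := by
  obtain ⟨j, hj⟩ := card_dvd_of_le hQX
  have h1 := card_dvd_of_le hXP
  rw [hj, hc, mul_comm p] at h1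
  rcases (Nat.dvd_prime hp.out).mp (Nat.dvd_of_mul_dvd_mul_left Nat.card_pos h1) with rfl | rfl
  · exact absurd (eq_of_le_of_card_ge hQX (le_of_eq (by rw [hj, mul_one]))).ge hne
  · exact eq_of_le_of_card_ge hXP (le_of_eq (by rw [hj, hc, mul_comm]))

/-- Orbit bound at a prime whose Sylow subgroup is not central in its normalizer. -/
theorem two_mul_kP_mul_le {t : ℕ} [ht : Fact t.Prime] (R : Sylow t G)
    (h : ¬ normalizer ((R : Subgroup G) : Set G) ≤ centralizer ((R : Subgroup G) : Set G)) :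
    2 * t * kP t G ≤ Nat.card (R : Subgroup G) * (t + 1) := by
  haveI := Fintype.ofFinite G
  obtain ⟨g, hg, hgc⟩ := SetLike.not_le_iff_exists.mp h
  set F := (R : Subgroup G) ⊓ centralizer ({g} : Set G) with hF
  have hFR : ¬ (R : Subgroup G) ≤ F := fun hle => hgc (mem_centralizer_iff.mpr fun x hx =>
    mem_centralizer_singleton_iff.mp (hle hx).2)
  have hcard : t * Nat.card F ≤ Nat.card (R : Subgroup G) := by
    obtain ⟨i, hi⟩ := IsPGroup.iff_card.mp (R.2.to_le (inf_le_left : F ≤ _))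
    obtain ⟨j, hj⟩ := IsPGroup.iff_card.mp R.2
    have hlt : Nat.card F < Nat.card (R : Subgroup G) := by
      refine lt_of_le_of_ne (card_le_of_le inf_le_left) fun e => hFR ?_
      exact (eq_of_le_of_card_ge (inf_le_left : F ≤ _) e.ge).ge
    rw [hi, hj] at hlt ⊢
    rw [← pow_succ']
    exact Nat.pow_le_pow_right ht.out.pos ((Nat.pow_lt_pow_iff_right ht.out.one_lt).mp hlt)
  have hsum := sum_ite_two (R : Subgroup G) F inf_le_left 2 1
  have hmain := kP_mul_le R 2 (fun y => if y ∈ F then 2 else 1) ?_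
  · calc 2 * t * kP t G = t * (kP t G * 2) := by ring
      _ ≤ t * (Nat.card (R : Subgroup G) + Nat.card F) := Nat.mul_le_mul_left t (by omega)
      _ ≤ _ := by rw [mul_add, mul_add, mul_one, mul_comm t]; exact Nat.add_le_add_left hcard _
  · intro x hx
    by_cases hxF : x ∈ F
    · exact ⟨{x}, fun y hy => by rw [Finset.mem_singleton] at hy; subst hy; exact ⟨hx, IsConj.refl _⟩,
        by simp [hxF]⟩
    · have hne : x ≠ g * x * g⁻¹ := fun e => hxF ⟨hx, mem_centralizer_singleton_iff.mpr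
        (mul_inv_eq_iff_eq_mul.mp e.symm).symm⟩
      refine ⟨{x, g * x * g⁻¹}, ?_, ?_⟩
      · intro y hy
        simp only [Finset.mem_insert, Finset.mem_singleton] at hy
        rcases hy with rfl | rfl
        · exact ⟨hx, IsConj.refl _⟩
        · exact ⟨conj_mem_of_mem_normalizer hg hx, isConj_iff.mpr ⟨g, rfl⟩⟩
      · rw [Finset.sum_pair hne, if_neg hxF]
        split <;> omega

/-- A `t`-group acting on a group of order a `p`-power, trivially on a subgroup of index `p < t`. -/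
theorem le_centralizer_of_lt {p t : ℕ} [hp : Fact p.Prime] [ht : Fact t.Prime] (hpt : p < t)
    {A Z T : Subgroup G} (hA : IsPGroup p A) (hZA : Z ≤ A) (hc : Nat.card A = p * Nat.card Z)
    (hT : IsPGroup t T) (hTA : T ≤ normalizer (A : Set G)) (hTZ : T ≤ centralizer (Z : Set G)) :
    T ≤ centralizer (A : Set G) := by
  letI : MulAction T A :=
    { smul := fun g x => ⟨(g : G) * x * (g : G)⁻¹, conj_mem_of_mem_normalizer (hTA g.2) x.2⟩
      one_smul := fun x => Subtype.ext (show (((1 : T) : G)) * x * ((1 : T) : G)⁻¹ = x by simp)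
      mul_smul := fun g h x => Subtype.ext (show ((g * h : T) : G) * x * ((g * h : T) : G)⁻¹ =
        (g : G) * ((h : G) * x * (h : G)⁻¹) * (g : G)⁻¹ by simp [mul_assoc]) }
  set F := A ⊓ centralizer (T : Set G) with hF
  have hZF : Z ≤ F := fun z hz => ⟨hZA hz, mem_centralizer_iff.mpr fun g hg =>
    ((hTZ hg) z hz).symm⟩
  by_cases hFZ : F ≤ Z
  · exfalso
    have hFe : F = Z := le_antisymm hFZ hZF
    have hfix := hT.card_modEq_card_fixedPoints A
    have e : Nat.card (MulAction.fixedPoints T A) = Nat.card F := by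
      refine Nat.card_congr ⟨fun x => ⟨((x.1 : A) : G), (x.1).2, mem_centralizer_iff.mpr fun g hg => ?_⟩,
        fun y => ⟨⟨(y : G), y.2.1⟩, fun g => Subtype.ext ?_⟩, fun x => rfl, fun y => rfl⟩
      · exact mul_inv_eq_iff_eq_mul.mp (congrArg Subtype.val (x.2 ⟨g, hg⟩))
      · exact mul_inv_eq_iff_eq_mul.mpr (mem_centralizer_iff.mp y.2.2 g g.2)
    rw [e, hFe, hc] at hfix
    have hd : t ∣ p * Nat.card Z - Nat.card Z :=
      (Nat.modEq_iff_dvd' (Nat.le_mul_of_pos_left _ hp.out.pos)).mp hfix.symm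
    rw [show p * Nat.card Z - Nat.card Z = (p - 1) * Nat.card Z by
      rw [Nat.sub_mul, one_mul]] at hd
    rcases (Nat.Prime.dvd_mul ht.out).mp hd with h1 | h1
    · have := Nat.le_of_dvd (by have := hp.out.two_le; omega) h1
      omega
    · obtain ⟨i, hi⟩ := IsPGroup.iff_card.mp (hA.to_le hZA)
      rw [hi] at h1
      exact absurd ((Nat.prime_dvd_prime_iff_eq ht.out hp.out).mp (ht.out.dvd_of_dvd_pow h1)) (by omega)
  · have hFA : F = A := eq_of_not_le hc hZF inf_le_left hFZ
    intro g hg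
    exact mem_centralizer_iff.mpr fun a ha =>
      ((mem_centralizer_iff.mp (hFA.ge ha).2 g hg)).symm

end Cfsg.Agent.PiHall23
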