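import Cfsg.Agent.Lib.PiHall23.IndexP
import Cfsg.Agent.Lib.SL2.McKay
import Cfsg.Agent.Lib.CT.Kernel

/-!
# Nilpotent and abelian Hall subgroups from many classes of π-elements
-/

set_option autoImplicit false
set_option linter.unusedSectionVars false
set_option linter.style.haveILetI false

namespace Cfsg.Agent.PiHall23

open Subgroup Cfsg Cfsg.Agent.Classes23 FGS.ThreeSizes
open scoped Classical Pointwise

universe u

attribute [local instance] Classes23.finite_conjClasses

variable {G : Type u} [Group G] [Finite G] {p r : ℕ} {s : Finset ℕ}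

/-- The inductive step. -/
theorem step [hp : Fact p.Prime] (hs : ∀ t ∈ s, t.Prime) (hr : ∀ t ∈ s, r ≤ t) (hpr : p < r)
    (hmany : p ^ (Nat.card G).factorization p * Mp s (Nat.card G) < p * kPi (insert p s) G)
    (ih : ∀ D : Subgroup G, Mp s (Nat.card G) < r * kPi s D →
      ∃ B : Subgroup G, B ≤ D ∧ IsNilHall s B) :
    ∃ H : Subgroup G, Nat.card H = p ^ (Nat.card G).factorization p * Mp s (Nat.card G) ∧
      Group.IsNilpotent H := by
  haveI := Fintype.ofFinite G
  set M := Mp s (Nat.card G) with hM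
  have hps : p ∉ s := fun h => absurd (hr p h) (Nat.not_le.mpr hpr)
  obtain ⟨x₀, hx₀⟩ : ∃ x : G, M < r * kPi s ↥(centralizer ({x} : Set G)) := by
    by_contra! hno
    let P : Sylow p G := default
    have hmain := kPi_insert_mul_le (σ := s) P r (fun _ => M) fun x hx =>
      ⟨{x}, fun y hy => by rw [Finset.mem_singleton] at hy; subst hy; exact ⟨hx, IsConj.refl _⟩,
        by rw [Finset.sum_singleton, mul_comm]; exact hno x⟩
    rw [Finset.sum_const, smul_eq_mul, card_filter_mem, P.card_eq_multiplicity] at hmain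
    have := Nat.mul_le_mul_left (kPi (insert p s) G) hpr.le
    rw [mul_comm p] at hmany
    nlinarith
  obtain ⟨B, -, hB⟩ := ih _ hx₀
  have S : Setup p r s B := ⟨hB, hr, hpr, hmany, fun x _ hx => by
    obtain ⟨B', hB'x, hB'⟩ := ih _ hx
    obtain ⟨c, -, hc⟩ := hB.exists_conj_le (D := ⊤) le_top (le_top : B' ≤ ⊤)
      fun t ht htd => hB'.mem_of_dvd ht htd
    have he : MulAut.conj c • B' = B :=
      eq_of_le_of_card_ge hc (by rw [Basics.card_conj_smul, hB'.card_eq, hB.card_eq])
    refine ⟨c, mem_centralizer_iff.mpr fun b hb => ?_⟩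
    rw [SetLike.mem_coe, ← he, Basics.mem_conj_smul] at hb
    have h1 := mem_centralizer_singleton_iff.mp (hB'x hb)
    calc b * (c * x * c⁻¹) = c * ((c⁻¹ * b * c) * x) * c⁻¹ := by group
      _ = _ := by rw [h1]; group⟩
  obtain ⟨PB, hPB, -⟩ := exists_sylowIn_ge (p := p) IsPGroup.of_bot
    (bot_le : ⊥ ≤ centralizer (B : Set G))
  obtain ⟨P, hle⟩ := hPB.isPGroup.exists_le_sylow
  obtain ⟨i, hi⟩ := IsPGroup.iff_card.mp hPB.isPGroup
  obtain ⟨j, hj⟩ := IsPGroup.iff_card.mp P.2
  have hij : i ≤ j := (Nat.pow_le_pow_iff_right hp.out.one_lt).mp (hi ▸ hj ▸ card_le_of_le hle)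
  obtain ⟨a, rfl⟩ := Nat.exists_eq_add_of_le hij
  have hcard : Nat.card (P : Subgroup G) = p ^ a * Nat.card PB := by
    rw [hi, hj, ← pow_add, add_comm]
  match a, hcard with
  | 0, hcard =>
    have hcomm : ∀ (m : (P : Subgroup G)) (n : B),
        Commute ((P : Subgroup G).subtype m) (B.subtype n) := by
      intro m n
      have he : PB = (P : Subgroup G) := eq_of_le_of_card_ge hle (le_of_eq (by rw [hcard, pow_zero, one_mul]))
      exact ((mem_centralizer_iff.mp (hPB.1 (he.ge m.2))) n n.2).symm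
    let φ := MonoidHom.noncommCoprod _ _ hcomm
    have hφ : Function.Injective φ := by
      refine (injective_iff_map_eq_one φ).mpr fun mn h => ?_
      obtain ⟨m, n⟩ := mn
      have h1 : (m : G) * (n : G) = 1 := h
      have h2 : (m : G) = ((n : G))⁻¹ := eq_inv_of_mul_eq_one_left h1
      have hco : (Nat.card (P : Subgroup G)).Coprime (Nat.card B) := by
        rw [hj, hB.card_eq]
        exact ((hp.out.coprime_iff_not_dvd).mpr fun h => hps (mem_of_dvd_Mp hs hp.out h)).pow_left _
      have h3 : orderOf (m : G) = 1 := Nat.eq_one_of_dvd_coprimes hco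
        (Subgroup.orderOf_dvd_natCard _ m.2)
        (by rw [h2, orderOf_inv]; exact Subgroup.orderOf_dvd_natCard _ n.2)
      have hm : (m : G) = 1 := orderOf_eq_one_iff.mp h3
      have hn : (n : G) = 1 := by rw [hm, one_mul] at h1; exact h1
      exact Prod.ext (Subtype.ext hm) (Subtype.ext hn)
    haveI := P.2.isNilpotent
    haveI := hB.nil
    refine ⟨φ.range, ?_, Group.nilpotent_of_surjective φ.rangeRestrict φ.rangeRestrict_surjective⟩
    rw [← Nat.card_congr (MonoidHom.ofInjective hφ).toEquiv, Nat.card_prod, P.card_eq_multiplicity,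
      hB.card_eq]
  | 1, hcard => exact (S.false_of_index P hPB hle (by rw [hcard, pow_one])).elim
  | a + 2, hcard =>
    exfalso
    have hmain := kPi_insert_mul_le (σ := s) P r (fun y => if y ∈ PB then r * M else M) ?_
    · have hsum := sum_ite_two (P : Subgroup G) PB hle (r * M) M
      rw [← P.card_eq_multiplicity, hcard] at hmany
      rw [hcard] at hsum
      obtain ⟨e, he⟩ : ∃ e, p ^ a = 1 + e := ⟨p ^ a - 1, by have := Nat.one_le_pow a p hp.out.pos; omega⟩
      rw [pow_add, he] at hmany hsum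
      have hk : (1 + e) * p * Nat.card PB * M < kPi (insert p s) G := by
        refine Nat.lt_of_mul_lt_mul_left (a := p) ?_
        calc p * ((1 + e) * p * Nat.card PB * M) = (1 + e) * p ^ 2 * Nat.card PB * M := by ring
          _ < _ := hmany
      have h1 : ((1 + e) * p * Nat.card PB * M + 1) * r ≤ kPi (insert p s) G * r :=
        Nat.mul_le_mul_right _ hk
      obtain ⟨d, hd⟩ : ∃ d, r = p + 1 + d := ⟨r - (p + 1), by omega⟩
      obtain ⟨q, hq⟩ : ∃ q, p = 2 + q := ⟨p - 2, by have := hp.out.two_le; omega⟩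
      subst hd hq
      have h5 : 0 ≤ d * (Nat.card PB * M) := Nat.zero_le _
      have h6 : 0 ≤ q * (d * (Nat.card PB * M)) := Nat.zero_le _
      have h7 : 0 ≤ e * (q * (d * (Nat.card PB * M))) := Nat.zero_le _
      have h8 : 0 ≤ e * (d * (Nat.card PB * M)) := Nat.zero_le _
      have h9 : 0 ≤ e * (q * (Nat.card PB * M)) := Nat.zero_le _
      have h10 : 0 ≤ e * (Nat.card PB * M) := Nat.zero_le _
      nlinarith
    · intro x hx
      have hxp : ∃ k, orderOf x = p ^ k := by
        obtain ⟨k, hk⟩ := IsPGroup.iff_orderOf.mp P.2 ⟨x, hx⟩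
        exact ⟨k, by rw [← hk, orderOf_mk]⟩
      by_cases hmeet : ∃ x' ∈ PB, IsConj x x'
      · obtain ⟨x', hx', hxx'⟩ := hmeet
        refine ⟨{x'}, fun z hz => by rw [Finset.mem_singleton] at hz; subst hz; exact ⟨hle hx', hxx'⟩, ?_⟩
        rw [Finset.sum_singleton, if_pos hx', mul_comm]
        exact Nat.mul_le_mul_left _ (kPi_le_Mp hs _)
      · push Not at hmeet
        refine ⟨{x}, fun z hz => by rw [Finset.mem_singleton] at hz; subst hz; exact ⟨hx, IsConj.refl _⟩, ?_⟩
        rw [Finset.sum_singleton, if_neg fun h => hmeet x h (IsConj.refl x), mul_comm]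
        exact S.bad hPB hxp hmeet

/-- Many classes give a nilpotent Hall subgroup. -/
theorem exists_nilHall : ∀ (π : Finset ℕ), (∀ t ∈ π, t.Prime) → ∀ (p : ℕ), (∀ t ∈ π, p ≤ t) →
    ∀ (G : Type u) [Group G] [Finite G], Mp π (Nat.card G) < p * kPi π G →
      ∃ H : Subgroup G, IsNilHall π H := by
  intro π
  induction π using Finset.strongInduction with
  | _ π ih =>
  intro hπ p hp G _ _ hmany
  rcases π.eq_empty_or_nonempty with rfl | hne
  · exact ⟨⊥, hπ, by simp [Mp], inferInstance⟩
  set q := π.min' hne with hq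
  have hqπ : q ∈ π := π.min'_mem hne
  haveI : Fact q.Prime := ⟨hπ q hqπ⟩
  set s := π.erase q with hs
  have hπs : insert q s = π := Finset.insert_erase hqπ
  have hqs : q ∉ s := Finset.notMem_erase q π
  have hsP : ∀ t ∈ s, t.Prime := fun t ht => hπ t (Finset.mem_of_mem_erase ht)
  have hmany' : q ^ (Nat.card G).factorization q * Mp s (Nat.card G) < q * kPi (insert q s) G := by
    rw [← Mp_insert hqs, hπs]
    exact hmany.trans_le (Nat.mul_le_mul_right _ (hp q hqπ))
  rcases s.eq_empty_or_nonempty with hse | hsne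
  · let P : Sylow q G := default
    refine ⟨P, hπ, ?_, P.2.isNilpotent⟩
    rw [← hπs, hse, Mp, Finset.prod_insert (Finset.notMem_empty q), Finset.prod_empty, mul_one,
      P.card_eq_multiplicity]
  set r := s.min' hsne with hr
  have hrs : ∀ t ∈ s, r ≤ t := fun t ht => s.min'_le t ht
  have hqr : q < r := by
    have h1 := s.min'_mem hsne
    exact lt_of_le_of_ne (π.min'_le _ (Finset.mem_of_mem_erase h1)) fun e => hqs (e ▸ h1)
  obtain ⟨H, hH, hnil⟩ := step hsP hrs hqr hmany' fun D hD => by
    have hd := Mp_dvd (σ := s) Nat.card_pos.ne' (card_subgroup_dvd_card D)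
    by_cases heq : Mp s (Nat.card D) = Mp s (Nat.card G)
    · obtain ⟨B, hB⟩ := ih s (Finset.erase_ssubset hqπ) hsP r hrs D (by rwa [heq])
      haveI := hB.nil
      refine ⟨B.map D.subtype, map_subtype_le B, hsP, ?_, ?_⟩
      · rw [card_map_of_injective D.subtype_injective, hB.card_eq, heq]
      · exact Group.nilpotent_of_mulEquiv (B.equivMapOfInjective _ D.subtype_injective)
    · exfalso
      have h1 := mul_le_of_dvd_ne hsP hrs hd heq
      have h2 := Nat.mul_le_mul_left r (Classes23.kPi_le s hsP D)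
      exact absurd (h2.trans h1) (Nat.not_le.mpr hD)
  exact ⟨H, hπ, by rw [hH, ← Mp_insert hqs, hπs], hnil⟩

/-- The class count of a Hall subgroup bounds that of the group. -/
theorem kPi_le_classes {π : Finset ℕ} {H : Subgroup G} (hH : IsNilHall π H) :
    kPi π G ≤ Nat.card (ConjClasses H) := by
  have hrep : ∀ c : {c : ConjClasses G // ∀ x ∈ c.carrier, IsPiEl π x},
      ∃ h : H, ConjClasses.mk (h : G) = c.1 := by
    intro c
    obtain ⟨y, hy⟩ := ConjClasses.mk_surjective c.1
    obtain ⟨t, htH, hyt⟩ := hH.exists_isConj (le_top : H ≤ ⊤) ⟨y, mem_top y⟩ fun r hr hrd =>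
      c.2 y (ConjClasses.mem_carrier_iff_mk_eq.mpr hy) r hr (by rwa [orderOf_mk] at hrd)
    refine ⟨⟨t, htH⟩, ?_⟩
    rw [← hy]
    exact (ConjClasses.mk_eq_mk_iff_isConj.mpr ((⊤ : Subgroup G).subtype.map_isConj hyt)).symm
  choose h hh using hrep
  refine Nat.card_le_card_of_injective (fun c => ConjClasses.mk (h c)) fun c d e => Subtype.ext ?_
  rw [← hh c, ← hh d]
  exact congrArg (ConjClasses.map H.subtype) e

/-- Class count against the derived subgroup. -/
theorem classes_mul_le (H : Type u) [Group H] [Finite H] (q : ℕ)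
    (hq : ∀ t : ℕ, t.Prime → t ∣ Nat.card H → q ≤ t) :
    Nat.card (ConjClasses H) * (Nat.card (commutator H) * q ^ 2) + Nat.card H ≤
      Nat.card H * Nat.card (commutator H) + q ^ 2 * Nat.card H := by
  haveI := Fintype.ofFinite H
  set L : Finset (IrrCharacter H) := Finset.univ.filter fun χ => charDegree (χ : H → ℂ) = 1 with hL
  have hLc : L.card = (commutator H).index := by
    rw [← CT.card_linear_irr, Nat.card_eq_fintype_card, Fintype.card_subtype, hL]
    congr 1
    refine Finset.filter_congr fun χ _ => ?_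
    rw [SL2.charDegree_eq, Nat.cast_eq_one]
  have hterm : ∀ χ : IrrCharacter H,
      q ^ 2 + (if χ ∈ L then 1 else 0) ≤
        charDegree (χ : H → ℂ) ^ 2 + (if χ ∈ L then q ^ 2 else 0) := by
    intro χ
    by_cases hχ : χ ∈ L
    · rw [if_pos hχ, if_pos hχ, (Finset.mem_filter.mp hχ).2, one_pow]; omega
    · rw [if_neg hχ, if_neg hχ, add_zero, add_zero]
      have h1 : charDegree (χ : H → ℂ) ≠ 1 := fun e => hχ (Finset.mem_filter.mpr ⟨Finset.mem_univ _, e⟩)
      obtain ⟨t, ht, htd⟩ := Nat.exists_prime_and_dvd h1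
      exact Nat.pow_le_pow_left ((hq t ht (htd.trans (SL2.charDegree_dvd_card' χ))).trans
        (Nat.le_of_dvd (SL2.charDegree_pos' χ) htd)) 2
  have h := Finset.sum_le_sum fun χ (_ : χ ∈ (Finset.univ : Finset (IrrCharacter H))) => hterm χ
  rw [Finset.sum_add_distrib, Finset.sum_add_distrib, SL2.sum_sq_charDegree, Finset.sum_const,
    Finset.sum_ite_mem, Finset.univ_inter, Finset.sum_ite_mem, Finset.univ_inter, Finset.sum_const,
    Finset.sum_const, smul_eq_mul, smul_eq_mul, smul_eq_mul, mul_one, Finset.card_univ, ← Nat.card_eq_fintype_card,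
    CT.card_irr_eq_card_conjClasses, hLc] at h
  have hc := card_mul_index (commutator H)
  have h2 := Nat.mul_le_mul_left (Nat.card (commutator H)) h
  nlinarith

end Cfsg.Agent.PiHall23
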